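import Cfsg.Agent.Lib.Char.DerangementIndex
import Mathlib.GroupTheory.Sylow
import Mathlib.GroupTheory.Nilpotent
import Mathlib.Data.Nat.GCD.Basic

/-!
Transitive groups `G` with a normal subgroup `D` such that every element outside `D` fixes exactly one
point (Frobenius–Wielandt pairs): congruences for the prime power parts of the degree.
-/

set_option autoImplicit false
set_option linter.unusedSectionVars false

open MulAction Subgroup

namespace CfsgLib.DerangeIndex

variable {G Ω : Type*} [Group G] [Finite G] [MulAction G Ω] [Finite Ω]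

/-- `D` is a transitive normal subgroup and each element outside `D` fixes at most one point. -/
structure Pair (G Ω : Type*) [Group G] [MulAction G Ω] (D : Subgroup G) : Prop where
  normal : D.Normal
  trans : ∀ a b : Ω, ∃ d ∈ D, d • a = b
  uniq : ∀ g : G, g ∉ D → ∀ a b : Ω, g • a = a → g • b = b → a = b

/-- `K` meets every coset of `D`. -/
def Covers (D K : Subgroup G) : Prop := ∀ g : G, ∃ k ∈ K, k⁻¹ * g ∈ D

theorem Covers.relIndex {D K : Subgroup G} [D.Normal] (h : Covers D K) : D.relIndex K = D.index := by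
  have htop : K ⊔ D = ⊤ := eq_top_iff.2 fun g _ => by
    obtain ⟨k, hk, hg⟩ := h g
    rw [show g = k * (k⁻¹ * g) by group]
    exact mul_mem (mem_sup_left hk) (mem_sup_right hg)
  rw [← relIndex_sup_right, htop, relIndex_top_right]

theorem Pair.covers_stabilizer {D : Subgroup G} (h : Pair G Ω D) (a : Ω) :
    Covers D (stabilizer G a) := fun g => by
  obtain ⟨d, hd, he⟩ := h.trans a (g • a)
  refine ⟨d⁻¹ * g, by rw [mem_stabilizer_iff, mul_smul, ← he, inv_smul_smul], ?_⟩
  rw [show (d⁻¹ * g)⁻¹ * g = g⁻¹ * d * (g⁻¹)⁻¹ by group]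
  exact h.normal.conj_mem d hd g⁻¹

/-- In a finite group an element conjugating a subgroup into itself normalises it. -/
theorem mem_nrm {H : Subgroup G} {u : G} (h : ∀ x ∈ H, u * x * u⁻¹ ∈ H) :
    u ∈ normalizer (H : Set G) := by
  have hle : H.map (MulAut.conj u).toMonoidHom ≤ H := by
    rintro _ ⟨x, hx, rfl⟩
    exact h x hx
  have he := eq_of_le_of_card_ge hle
    (card_map_of_injective (MulAut.conj u).injective).ge
  refine mem_normalizer_iff.2 fun x => ⟨h x, fun hx => ?_⟩
  rw [← he] at hx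
  obtain ⟨y, hy, hyx⟩ := hx
  rwa [show y = x from (MulAut.conj u).injective hyx] at hy

/-- Frattini argument relative to `D`. -/
theorem Covers.normalizer_sylow {D K N : Subgroup G} (hK : Covers D K) [hD : D.Normal] (hND : N ≤ D)
    (hNK : N ≤ K) (hn : ∀ k ∈ K, ∀ x ∈ N, k * x * k⁻¹ ∈ N) {p : ℕ} [Fact p.Prime] (P : Sylow p N) :
    Covers D (K ⊓ normalizer (((P : Subgroup N).map N.subtype : Subgroup G) : Set G)) := by
  intro g
  obtain ⟨k, hk, hkg⟩ := hK g
  set P' := (P : Subgroup N).map N.subtype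
  have hpg : IsPGroup p ((P'.map (MulAut.conj k⁻¹).toMonoidHom).subgroupOf N) :=
    ((P.2.map N.subtype).map _).comap_of_injective _ N.subtype_injective
  obtain ⟨R, hR⟩ := hpg.exists_le_sylow
  obtain ⟨n, hn'⟩ := MulAction.exists_smul_eq N R P
  have hu : ((n : G) * k⁻¹) ∈ normalizer (P' : Set G) := mem_nrm fun x hx => by
    have h1 : k⁻¹ * x * k ∈ N := by
      simpa using hn k⁻¹ (inv_mem hk) x (map_subtype_le _ hx)
    have h2 : (⟨_, h1⟩ : N) ∈ (R : Subgroup N) := hR (mem_subgroupOf.2 ⟨x, hx, by simp⟩)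
    refine ⟨n * ⟨_, h1⟩ * n⁻¹, ?_, by simp [mul_assoc]⟩
    rw [← hn', Sylow.coe_subgroup_smul]
    exact ⟨_, h2, by simp [MulAut.smul_def]⟩
  refine ⟨k * (n : G)⁻¹, mem_inf.2 ⟨mul_mem hk (inv_mem (hNK n.2)), ?_⟩, ?_⟩
  · rw [show k * (n : G)⁻¹ = ((n : G) * k⁻¹)⁻¹ by group]
    exact inv_mem hu
  · rw [show (k * (n : G)⁻¹)⁻¹ * g = (n : G) * (k⁻¹ * g) by group]
    exact mul_mem (hND n.2) hkg

/-- A set invariant under `K` and containing a fixed point of `K` has size `1` modulo `|K : K ∩ D|`. -/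
theorem Pair.dvd_ncard_sub_one {D K : Subgroup G} (h : Pair G Ω D) {a : Ω}
    (ha : ∀ k ∈ K, k • a = a) {S : Set Ω} (haS : a ∈ S) (hS : ∀ k ∈ K, ∀ x ∈ S, k • x ∈ S) :
    D.relIndex K ∣ S.ncard - 1 := by
  classical
  let T : SubMulAction K Ω :=
    { carrier := S \ {a}
      smul_mem' := fun k x hx => ⟨hS k k.2 x hx.1, fun e => hx.2 (by
        rw [Set.mem_singleton_iff] at e ⊢
        exact MulAction.injective (k : G) (e.trans (ha k k.2).symm))⟩ }
  have hT : Nat.card T = S.ncard - 1 := by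
    show Nat.card ↥(S \ {a}) = _
    rw [Nat.card_coe_set_eq, Set.ncard_sdiff_singleton_of_mem haS]
  haveI : Finite T := Subtype.finite
  haveI := Fintype.ofFinite (orbitRel.Quotient K T)
  rw [← hT, Nat.card_congr (selfEquivSigmaOrbitsQuotientStabilizer K T), Nat.card_sigma]
  refine Finset.dvd_sum fun ω _ => ?_
  rw [Subgroup.relIndex, ← Subgroup.index_eq_card]
  refine Subgroup.index_dvd_of_le fun x hx => ?_
  rw [mem_subgroupOf]
  by_contra hxD
  exact (ω.out : T).2.2 (h.uniq x hxD _ a (congrArg Subtype.val hx) (ha x x.2))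

theorem Pair.index_dvd {D : Subgroup G} (h : Pair G Ω D) (a : Ω) : D.index ∣ Nat.card Ω - 1 := by
  haveI := h.normal
  have h1 := h.dvd_ncard_sub_one (K := stabilizer G a) (fun k hk => hk) (Set.mem_univ a)
    fun _ _ _ _ => Set.mem_univ _
  rwa [(h.covers_stabilizer a).relIndex, Set.ncard_univ] at h1

theorem Pair.card_eq {D : Subgroup G} (h : Pair G Ω D) (a : Ω) :
    Nat.card Ω * Nat.card ↥(D ⊓ stabilizer G a) = Nat.card D := by
  haveI : IsPretransitive D Ω := ⟨fun x y => by
    obtain ⟨d, hd, he⟩ := h.trans x y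
    exact ⟨⟨d, hd⟩, he⟩⟩
  have h1 := index_stabilizer_of_transitive D a
  have h2 : stabilizer D a = (D ⊓ stabilizer G a).subgroupOf D := by
    ext x
    simp [mem_subgroupOf]
    rfl
  rw [h2] at h1
  have h3 := ((D ⊓ stabilizer G a).subgroupOf D).card_mul_index
  rw [Nat.card_congr (subgroupOfEquivOfLe inf_le_left).toEquiv, h1] at h3
  rw [← h3, mul_comm]

/-- For each prime `q` dividing the degree some nontrivial power of `q` dividing the degree is
congruent to `1` modulo the index of `D`; it is bounded by the orbit of the normaliser of a Sylow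
`q`-subgroup of `D ∩ G_a`. -/
theorem Pair.qpart {D : Subgroup G} (h : Pair G Ω D) (a : Ω) {q : ℕ} [hq : Fact q.Prime]
    (hqn : q ∣ Nat.card Ω) (Q₀ : Sylow q ↥(D ⊓ stabilizer G a)) :
    ∃ s, 0 < s ∧ q ^ s ∣ Nat.card Ω ∧ D.index ∣ q ^ s - 1 ∧
      q ^ s ≤ (MulAction.orbit ↥(normalizer (((Q₀ : Subgroup ↥(D ⊓ stabilizer G a)).map
        (D ⊓ stabilizer G a).subtype : Subgroup G) : Set G)) a).ncard := by
  haveI := h.normal
  revert Q₀
  set HD := D ⊓ stabilizer G a with hHD
  intro Q₀
  set Z := (Q₀ : Subgroup HD).map HD.subtype with hZdef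
  set Y := normalizer (Z : Set G) with hY
  have hZHD : Z ≤ HD := map_subtype_le _
  have hZpg : IsPGroup q Z := Q₀.2.map _
  have hcY : Covers D Y := by
    have := (h.covers_stabilizer a).normalizer_sylow (N := HD) inf_le_left inf_le_right
      (fun k hk x hx => mem_inf.2 ⟨h.normal.conj_mem x hx.1 k,
        mul_mem (mul_mem hk hx.2) (inv_mem hk)⟩) Q₀
    intro g
    obtain ⟨k, hk, hkg⟩ := this g
    exact ⟨k, hk.2, hkg⟩
  set YD := Y ⊓ D with hYD
  have hZY : Z ≤ YD := le_inf le_normalizer (hZHD.trans inf_le_left)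
  -- a Sylow `q`-subgroup of `Y ∩ D`
  obtain ⟨QS, hQS⟩ := (hZpg.comap_of_injective YD.subtype YD.subtype_injective).exists_le_sylow
  set Q := (QS : Subgroup YD).map YD.subtype with hQdef
  have hQle : Q ≤ YD := map_subtype_le _
  have hZQ : Z ≤ Q := fun z hz => ⟨⟨z, hZY hz⟩, hQS hz, rfl⟩
  have hQpg : IsPGroup q Q := QS.2.map _
  -- stabilisers in `Q` of points of the orbit
  have hstab : ∀ b ∈ MulAction.orbit Y a, Q ⊓ stabilizer G b = Z := by
    rintro _ ⟨⟨y, hy⟩, rfl⟩
    show Q ⊓ stabilizer G (y • a) = Z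
    refine (eq_of_le_of_card_ge (le_inf hZQ fun z hz => ?_) ?_).symm
    · have h1 : y⁻¹ * z * y ∈ Z := by
        simpa using (mem_normalizer_iff.1 (inv_mem hy) z).1 hz
      have h2 : (y⁻¹ * z * y) • a = a := (hZHD h1).2
      show z • y • a = y • a
      rw [mul_smul, mul_smul, inv_smul_eq_iff] at h2
      exact h2
    · set W := (Q ⊓ stabilizer G (y • a)).map (MulAut.conj y⁻¹).toMonoidHom with hW
      have hWc : Nat.card W = Nat.card ↥(Q ⊓ stabilizer G (y • a)) :=
        card_map_of_injective (MulAut.conj y⁻¹).injective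
      rw [← hWc]
      have hWHD : W ≤ HD := by
        rintro _ ⟨x, hx, rfl⟩
        refine mem_inf.2 ⟨h.normal.conj_mem x (hQle hx.1).2 _, ?_⟩
        have h2 : x • y • a = y • a := hx.2
        show (y⁻¹ * x * y⁻¹⁻¹) • a = a
        rw [inv_inv, mul_smul, mul_smul, h2, inv_smul_smul]
      have hWpg : IsPGroup q (W.subgroupOf HD) :=
        ((hQpg.to_le inf_le_left).map _).comap_of_injective _ HD.subtype_injective
      obtain ⟨T, hT⟩ := hWpg.exists_le_sylow
      have e1 : Nat.card (W.subgroupOf HD) = Nat.card W :=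
        Nat.card_congr (subgroupOfEquivOfLe hWHD).toEquiv
      have e2 : Nat.card Z = Nat.card (Q₀ : Subgroup HD) := card_map_of_injective HD.subtype_injective
      rw [← e1, e2, Q₀.card_eq_multiplicity, ← T.card_eq_multiplicity]
      exact card_le_of_le hT
  -- the size of the orbit of `Q`
  have horb : ∀ b ∈ MulAction.orbit Y a, (MulAction.orbit Q b).ncard = Z.relIndex Q := by
    intro b hb
    rw [← index_stabilizer, ← hstab b hb]
    show _ = ((Q ⊓ stabilizer G b).subgroupOf Q).index
    congr 1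
    ext x
    simp [mem_subgroupOf]
    rfl
  obtain ⟨c, hc⟩ := hQpg.exists_card_eq
  have hrel : Z.relIndex Q ∣ q ^ c := hc ▸ relIndex_dvd_card Z Q
  obtain ⟨t, -, ht⟩ := (Nat.dvd_prime_pow hq.out).1 hrel
  -- a Sylow subgroup of `D`
  obtain ⟨SD, hSD⟩ := (hQpg.comap_of_injective D.subtype D.subtype_injective).exists_le_sylow
  set S := (SD : Subgroup D).map D.subtype
  have hQS' : Q ≤ S := fun x hx => ⟨⟨x, (hQle hx).2⟩, hSD hx, rfl⟩
  have hScard : Nat.card S = q ^ (Nat.card D).factorization q := by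
    rw [card_map_of_injective D.subtype_injective, SD.card_eq_multiplicity]
  have hZcard : Nat.card Z = q ^ (Nat.card HD).factorization q := by
    rw [card_map_of_injective HD.subtype_injective, Q₀.card_eq_multiplicity]
  have hn0 : Nat.card Ω ≠ 0 := by
    haveI : Nonempty Ω := ⟨a⟩
    exact Nat.card_pos.ne'
  have hfac : (Nat.card D).factorization q =
      (Nat.card Ω).factorization q + (Nat.card HD).factorization q := by
    rw [← h.card_eq a, Nat.factorization_mul hn0 Nat.card_pos.ne']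
    rfl
  have hpos := hq.out.factorization_pos_of_dvd hn0 hqn
  have hdiv : q ^ t ∣ Nat.card Ω := by
    refine (hq.out.pow_dvd_iff_le_factorization hn0).2 ?_
    have h1 : Nat.card Z * Z.relIndex Q = Nat.card Q := by
      rw [← relIndex_bot_left, ← relIndex_bot_left, relIndex_mul_relIndex _ _ _ bot_le hZQ]
    have h2 := card_le_of_le hQS'
    rw [← h1, ht, hScard, hZcard, ← pow_add] at h2
    have := (Nat.pow_le_pow_iff_right hq.out.one_lt).1 h2
    omega
  have htpos : 0 < t := by
    by_contra ht0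
    rw [show t = 0 by omega, pow_zero] at ht
    have hQZ : Q ≤ Z := relIndex_eq_one.1 ht
    -- `Z` is not a Sylow subgroup of `D`, so its normaliser contains a larger `q`-group
    have hlt : Z.subgroupOf S < ⊤ := by
      refine lt_top_iff_ne_top.2 fun e => ?_
      have h1 := card_le_of_le (subgroupOf_eq_top.1 e)
      rw [hScard, hZcard] at h1
      have := (Nat.pow_le_pow_iff_right hq.out.one_lt).1 h1
      omega
    have hSpg : IsPGroup q S := SD.2.map _
    haveI : Group.IsNilpotent S := hSpg.isNilpotent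
    obtain ⟨w, hwn, hw⟩ := SetLike.exists_of_lt (normalizerCondition_of_isNilpotent
      (G := S) _ hlt)
    have hwY : (w : G) ∈ Y := mem_nrm fun z hz => by
      have h3 := (mem_normalizer_iff.1 hwn ⟨z, hQS' (hZQ hz)⟩).1 (mem_subgroupOf.2 hz)
      rwa [mem_subgroupOf] at h3
    let V : Subgroup G := S ⊓ YD
    have hV : (⟨(w : G), mem_inf.2 ⟨hwY, map_subtype_le _ w.2⟩⟩ : YD) ∈ V.subgroupOf YD :=
      mem_subgroupOf.2 (mem_inf.2 ⟨w.2, mem_inf.2 ⟨hwY, map_subtype_le _ w.2⟩⟩)
    have hQV : (QS : Subgroup YD) ≤ V.subgroupOf YD := fun x hx =>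
      mem_subgroupOf.2 (mem_inf.2 ⟨hQS' ⟨x, hx, rfl⟩, x.2⟩)
    have heq := QS.3 ((hSpg.to_le inf_le_left).comap_of_injective _ YD.subtype_injective) hQV
    rw [show V.subgroupOf YD = V.comap YD.subtype from rfl] at hV
    rw [heq] at hV
    exact hw (mem_subgroupOf.2 (hQZ ⟨_, hV, rfl⟩))
  refine ⟨t, htpos, hdiv, ?_, ?_⟩
  · -- congruence, one prime at a time
    have hX : Covers D (Y ⊓ normalizer (Q : Set G)) :=
      hcY.normalizer_sylow (N := YD) inf_le_right inf_le_left (fun k hk x hx => mem_inf.2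
        ⟨mul_mem (mul_mem hk hx.1) (inv_mem hk), h.normal.conj_mem x hx.2 k⟩) QS
    set X := Y ⊓ normalizer (Q : Set G)
    refine (Nat.dvd_iff_prime_pow_dvd_dvd _ _).2 fun r e hr hre => ?_
    rcases Nat.eq_zero_or_pos e with rfl | he
    · simp
    haveI := Fact.mk hr
    obtain ⟨RS⟩ : Nonempty (Sylow r X) := inferInstance
    set R := (RS : Subgroup X).map X.subtype with hRdef
    have hRX : R ≤ X := map_subtype_le _
    -- `r^e` divides `|R : R ∩ D|`
    have hre' : r ^ e ∣ D.relIndex R := by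
      have h1 : D.relIndex R = (D.subgroupOf X).relIndex (RS : Subgroup X) := by
        rw [hRdef, ← relIndex_comap, show comap X.subtype D = D.subgroupOf X from rfl]
      haveI : (D.subgroupOf X).Normal := normal_subgroupOf
      set D' := D.subgroupOf X
      have h2 := relIndex_mul_index (show D' ≤ (RS : Subgroup X) ⊔ D' from le_sup_right)
      rw [relIndex_sup_right, show D'.index = D.relIndex X from rfl, hX.relIndex] at h2
      have h3 : ¬ r ∣ ((RS : Subgroup X) ⊔ D').index := fun hd =>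
        RS.not_dvd_index (hd.trans (index_dvd_of_le le_sup_left))
      rw [h1]
      exact (Nat.Coprime.pow_left e ((hr.coprime_iff_not_dvd).2 h3)).dvd_of_dvd_mul_right (h2 ▸ hre)
    -- `R` fixes a point of the orbit
    haveI : Fintype (MulAction.orbit Y a) := Fintype.ofFinite _
    let i : R →* Y := Subgroup.inclusion (hRX.trans inf_le_left)
    letI : MulAction R (MulAction.orbit Y a) := MulAction.compHom _ i
    have hfixR : ∃ b : MulAction.orbit Y a, ∀ x : R, x • b = b := by
      have hmod := (RS.2.map X.subtype : IsPGroup r R).card_modEq_card_fixedPoints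
        (MulAction.orbit Y a)
      have hrel1 : D.index ∣ (MulAction.orbit Y a).ncard - 1 := by
        have h4 := h.dvd_ncard_sub_one (K := Y ⊓ stabilizer G a) (fun k hk => hk.2)
          (MulAction.mem_orbit_self a) (S := MulAction.orbit Y a) (by
            rintro k hk _ ⟨y, rfl⟩
            exact ⟨⟨k, hk.1⟩ * y, mul_smul (k : G) (y : G) a⟩)
        have hcov : Covers D (Y ⊓ stabilizer G a) := by
          have h5 := (h.covers_stabilizer a).normalizer_sylow (N := HD) inf_le_left inf_le_right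
            (fun k hk x hx => mem_inf.2 ⟨h.normal.conj_mem x hx.1 k,
              mul_mem (mul_mem hk hx.2) (inv_mem hk)⟩) Q₀
          rwa [inf_comm] at h5
        rwa [hcov.relIndex] at h4
      have hrdvd : r ∣ (MulAction.orbit Y a).ncard - 1 :=
        ((dvd_pow_self r he.ne').trans hre).trans hrel1
      have hne : Nat.card (MulAction.fixedPoints R (MulAction.orbit Y a)) ≠ 0 := by
        intro h0
        rw [h0, Nat.modEq_zero_iff_dvd, Nat.card_coe_set_eq] at hmod
        have hp1 : 0 < (MulAction.orbit Y a).ncard :=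
          (Set.ncard_pos (Set.toFinite _)).2 ⟨a, MulAction.mem_orbit_self a⟩
        have := Nat.dvd_sub hmod hrdvd
        rw [Nat.sub_sub_self hp1] at this
        exact hr.not_dvd_one this
      obtain ⟨⟨b, hb⟩⟩ := (Nat.card_ne_zero.1 hne).1
      exact ⟨b, hb⟩
    obtain ⟨⟨b, hb⟩, hbR⟩ := hfixR
    have hbfix : ∀ x ∈ R, x • b = b := fun x hx => congrArg Subtype.val (hbR ⟨x, hx⟩)
    have h6 := h.dvd_ncard_sub_one (K := R) hbfix (MulAction.mem_orbit_self b)
      (S := MulAction.orbit Q b) (by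
        rintro x hx _ ⟨⟨u, hu⟩, rfl⟩
        have hxu : x * u * x⁻¹ ∈ Q := (mem_normalizer_iff.1 (hRX hx).2 u).1 hu
        refine ⟨⟨_, hxu⟩, ?_⟩
        show (x * u * x⁻¹) • b = x • u • b
        rw [mul_smul, mul_smul]
        congr 2
        rw [inv_smul_eq_iff, hbfix x hx])
    rw [horb b hb, ht] at h6
    exact hre'.trans h6
  · rw [← ht, ← horb a (MulAction.mem_orbit_self a)]
    refine Set.ncard_le_ncard ?_ (Set.toFinite _)
    rintro _ ⟨⟨u, hu⟩, rfl⟩
    exact ⟨⟨u, (mem_inf.1 (hQle hu)).1⟩, rfl⟩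

end CfsgLib.DerangeIndex
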