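import Cfsg.Agent.Lib.Perm.DerangeIndex.Count

/-!
Counting complements in a maximal elementary abelian subgroup of the section above `C`.
-/

set_option autoImplicit false
set_option linter.unusedSectionVars false

open Subgroup

namespace CfsgLib.DerangeIndex

variable {G : Type*} [Group G] [Finite G] {D V H Q C : Subgroup G} {p q : ℕ} {z : G}

theorem card_le_mul {K W : Subgroup G} (hKW : K ≤ W) {r : ℕ} (f : Fin r → G) (hf : ∀ i, f i ∈ W)
    (h : ∀ w ∈ W, ∃ i, (f i)⁻¹ * w ∈ K) : Nat.card W ≤ r * Nat.card K := by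
  have hs : Function.Surjective (fun ik : Fin r × K => (⟨f ik.1 * ik.2, mul_mem (hf _) (hKW ik.2.2)⟩ : W)) := by
    intro w
    obtain ⟨i, hi⟩ := h w w.2
    exact ⟨(i, ⟨_, hi⟩), Subtype.ext (mul_inv_cancel_left _ _)⟩
  refine (Nat.card_le_card_of_surjective _ hs).trans ?_
  rw [Nat.card_prod, Nat.card_fin]

/-- The centraliser of `C` in `Q` is `C`. -/
theorem Loc.false_of_noncyclic (h : Loc D V H p q Q C z)
    (hR : ∃ x ∈ Q, (∀ c ∈ C, x * c = c * x) ∧ x ∉ C) : False := by
  classical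
  haveI := Fact.mk h.qprime
  haveI := Fact.mk h.mod.prime
  obtain ⟨e, hV⟩ := h.mod.pgroup.exists_card_eq
  obtain ⟨E, hE⟩ := h.exists_ext hR
  have hQH : Q ≤ H := h.Qle.trans inf_le_left
  have hEH : E ≤ H := hE.le.trans hQH
  have hz1 : z ≠ 1 := fun e' => by
    have h1 := h.zord
    rw [e', orderOf_one] at h1
    exact h.qprime.ne_one h1.symm
  have hzq : z ^ q = 1 := h.zord ▸ pow_orderOf_eq_one z
  have hzE : z ∈ E := hE.Cle h.zC
  have hzc : ∀ x ∈ E, Commute x z := fun x hx => hE.cent x hx z h.zC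
  have hzH : ∀ u ∈ H, ∀ ε ∈ zpowers z, u * ε * u⁻¹ ∈ zpowers z := fun u hu ε hε => by
    refine h.zuniq _ (h.Cn u hu ε (zpowers_le.2 h.zC hε)) ?_
    obtain ⟨i, rfl⟩ := mem_zpowers_iff.1 hε
    rw [conj_pow, ← zpow_natCast (z ^ i), ← zpow_mul, mul_comm i, zpow_mul, zpow_natCast, hzq, one_zpow]
    group
  -- a maximal elementary abelian subgroup containing `z`
  obtain ⟨A, hA⟩ := Set.Finite.exists_maximal
    (Set.toFinite {A : Subgroup G | A ≤ E ∧ z ∈ A ∧ Cfsg.IsElementaryAbelian q A})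
    ⟨zpowers z, zpowers_le.2 hzE, mem_zpowers z, ⟨⟨fun a b => by
      obtain ⟨i, hi⟩ := mem_zpowers_iff.1 a.2
      obtain ⟨j, hj⟩ := mem_zpowers_iff.1 b.2
      exact Subtype.ext (by show (a : G) * b = b * a; rw [← hi, ← hj]; exact (Commute.zpow_zpow_self z i j).eq)⟩⟩,
      fun x hx => by
        obtain ⟨i, rfl⟩ := mem_zpowers_iff.1 hx
        rw [← zpow_natCast, ← zpow_mul, mul_comm, zpow_mul, zpow_natCast, hzq, one_zpow]⟩
  obtain ⟨⟨hAE, hzA, hAe⟩, hAmax⟩ := hA
  have hAc : ∀ a ∈ A, ∀ b ∈ A, a * b = b * a := fun a ha b hb =>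
    congrArg Subtype.val (hAe.1.is_comm.comm (⟨a, ha⟩ : A) ⟨b, hb⟩)
  have hroot : ∀ x ∈ E, x ^ q = 1 → (∀ a ∈ A, Commute a x) → x ∈ A := by
    intro x hx hxq hxA
    have hnrm : zpowers x ≤ normalizer (A : Set G) := zpowers_le.2 (mem_nrm fun a ha => by
      rw [← (hxA a ha).eq, mul_inv_cancel_right]; exact ha)
    have hdec : ∀ u ∈ A ⊔ zpowers x, ∃ a ∈ A, ∃ i : ℤ, u = a * x ^ i := fun u hu => by
      obtain ⟨a, ha, b, hb, e'⟩ := CfsgLib.Coprime.mem_sup_exists hnrm hu
      obtain ⟨i, rfl⟩ := mem_zpowers_iff.1 hb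
      exact ⟨a, ha, i, e'.symm⟩
    have h1 : A ⊔ zpowers x ∈ {A : Subgroup G | A ≤ E ∧ z ∈ A ∧ Cfsg.IsElementaryAbelian q A} := by
      refine ⟨sup_le hAE (zpowers_le.2 hx), mem_sup_left hzA, ⟨⟨fun u w => ?_⟩⟩, fun u hu => ?_⟩
      · obtain ⟨a, ha, i, e1⟩ := hdec u u.2
        obtain ⟨b, hb, j, e2⟩ := hdec w w.2
        refine Subtype.ext ?_
        show (u : G) * w = w * u
        rw [e1, e2]
        exact (Commute.mul_left (Commute.mul_right (hAc a ha b hb) ((hxA a ha).zpow_right j))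
          (Commute.mul_right ((hxA b hb).zpow_right i).symm (Commute.zpow_zpow_self x i j))).eq
      · obtain ⟨a, ha, i, rfl⟩ := hdec u hu
        rw [((hxA a ha).zpow_right i).mul_pow, hAe.2 a ha, ← zpow_natCast, ← zpow_mul, mul_comm i,
          zpow_mul, zpow_natCast, hxq, one_zpow, one_mul]
    exact (hAmax h1 le_sup_left) (mem_sup_right (mem_zpowers x))
  rcases Nat.lt_or_ge (Nat.card A) (q ^ 2) with hsmall | hA2
  · refine hE.false_of_small h fun x hx hxq => ?_
    have hAz : A = zpowers z := by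
      have hpg : IsPGroup q A := fun a => ⟨1, by rw [pow_one]; exact Subtype.ext (hAe.2 a a.2)⟩
      obtain ⟨w, hw⟩ := hpg.exists_card_eq
      have hw1 : w < 2 := (Nat.pow_lt_pow_iff_right h.qprime.one_lt).1 (hw ▸ hsmall)
      refine (eq_of_le_of_card_ge (zpowers_le.2 hzA) ?_).symm
      rw [hw, Nat.card_zpowers, h.zord]
      calc q ^ w ≤ q ^ 1 := Nat.pow_le_pow_right h.qprime.pos (by omega)
        _ = q := pow_one q
    rw [← hAz]
    refine hroot x hx hxq fun a ha => ?_
    rw [hAz] at ha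
    obtain ⟨i, rfl⟩ := mem_zpowers_iff.1 ha
    exact ((hzc x hx).zpow_right i).symm
  -- the hyperplane `B`
  have hAH : A ≤ H := hAE.trans hEH
  obtain ⟨B, hBA, hBi, hBf⟩ : ∃ B, B ≤ A ∧ B.relIndex A = q ∧ fix V B ≠ ⊥ := by
    by_contra hcon
    push Not at hcon
    refine h.mod.nontriv (le_bot_iff.1 (CfsgLib.Coprime.le_of_hyperplanes hAe hA2 ?_
      (hAH.trans h.mod.nrm) fun E' hE' hEi => (hcon E' hE' hEi).le))
    intro hd
    rw [hV] at hd
    have hqp := (Nat.prime_dvd_prime_iff_eq h.qprime h.mod.prime).1 (h.qprime.dvd_of_dvd_pow hd)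
    refine h.mod.cop (hqp ▸ ?_)
    exact h.zord ▸ Subgroup.orderOf_dvd_natCard _ (h.Qle (h.CQ h.zC))
  obtain ⟨v, hv, hv1⟩ : ∃ v ∈ fix V B, v ≠ 1 := by
    by_contra hcon
    push Not at hcon
    exact hBf ((eq_bot_iff_forall _).2 hcon)
  have hBE : B ≤ E := hBA.trans hAE
  have hCv : ∀ c ∈ C, c * v = v * c → c = 1 := fun c hc e' => by
    by_contra hc1
    exact hv1 (h.Cfpf c hc hc1 v (mem_fix.1 hv).1 e')
  have hBC : ∀ b ∈ B, b ∈ C → b = 1 := fun b hb hbC => hCv b hbC ((mem_fix.1 hv).2 b hb)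
  have hzB : z ∉ B := fun hzB => hz1 (hBC z hzB h.zC)
  have hcardA : Nat.card B * q = Nat.card A := by
    have h1 := relIndex_mul_relIndex ⊥ B A bot_le hBA
    rwa [relIndex_bot_left, relIndex_bot_left, hBi] at h1
  have hBq : q ≤ Nat.card B := Nat.le_of_mul_le_mul_right (by rw [hcardA, ← pow_two]; exact hA2) h.qprime.pos
  have hgenA : ∀ B' : Subgroup G, B' ≤ A → Nat.card B' = Nat.card B → z ∉ B' →
      ∀ a ∈ A, ∃ ε ∈ zpowers z, ∃ b ∈ B', ε * b = a := by
    intro B' hB' hc hzB' a ha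
    have hnrm : B' ≤ normalizer (zpowers z : Set G) := fun b hb => mem_nrm fun ε hε =>
      hzH b (hEH (hAE (hB' hb))) ε hε
    have hinf : zpowers z ⊓ B' = ⊥ := (eq_bot_iff_forall _).2 fun x hx => by
      by_contra hx1
      obtain ⟨hxz, hxB⟩ := mem_inf.1 hx
      have hox : orderOf x = q := orderOf_eq_prime (hAe.2 x (hB' hxB)) hx1
      have heq := eq_of_le_of_card_ge (zpowers_le.2 hxz)
        (by rw [Nat.card_zpowers, Nat.card_zpowers, h.zord, hox])
      exact hzB' (zpowers_le.2 hxB (heq.ge (mem_zpowers z)))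
    have htop : zpowers z ⊔ B' = A := eq_of_le_of_card_ge (sup_le (zpowers_le.2 hzA) hB') (by
      rw [CfsgLib.CFun.ZLen.card_sup_eq hnrm hinf, Nat.card_zpowers, h.zord, hc, ← hcardA, mul_comm])
    exact CfsgLib.Coprime.mem_sup_exists hnrm (by rwa [htop])
  -- the centraliser of `B` in `E`
  set W := E ⊓ centralizer (B : Set G) with hWdef
  have hWE : W ≤ E := inf_le_left
  have hWB : ∀ w ∈ W, ∀ b ∈ B, Commute b w := fun w hw b hb => mem_centralizer_iff.1 (mem_inf.1 hw).2 b hb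
  have hWA : ∀ w ∈ W, ∀ a ∈ A, Commute a w := by
    intro w hw a ha
    obtain ⟨ε, hε, b, hb, rfl⟩ := hgenA B hBA rfl hzB a ha
    exact Commute.mul_left (hE.cent w (hWE hw) ε (zpowers_le.2 h.zC hε)).symm (hWB w hw b hb)
  have hAW : A ≤ W := fun a ha => mem_inf.2 ⟨hAE ha, mem_centralizer_iff.2 fun b hb => hAc b (hBA hb) a ha⟩
  have hCW : C ≤ W := fun c hc => mem_inf.2 ⟨hE.Cle hc, mem_centralizer_iff.2 fun b hb => hE.cent b (hBE hb) c hc⟩
  have hEW : Nat.card E = Nat.card B * Nat.card W := by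
    have h1 := (hE.pairing h hBE).1
    rw [← inf_relIndex_right C B, show C ⊓ B = ⊥ from (eq_bot_iff_forall _).2
      fun x hx => hBC x hx.2 hx.1, relIndex_bot_left] at h1
    have h2 := relIndex_mul_relIndex ⊥ W E bot_le hWE
    rw [relIndex_bot_left, relIndex_bot_left, h1] at h2
    rw [← h2, mul_comm]
  -- `C` and `B` inside `W`
  have hCBnrm : B ≤ normalizer (C : Set G) := fun b hb => mem_nrm (h.Cn b (hEH (hBE hb)))
  have hK0c : Nat.card ↥(C ⊔ B) = Nat.card C * Nat.card B :=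
    CfsgLib.CFun.ZLen.card_sup_eq hCBnrm ((eq_bot_iff_forall _).2 fun x hx => hBC x hx.2 hx.1)
  have hK0W : C ⊔ B ≤ W := sup_le hCW (hBA.trans hAW)
  have hrootW : ∀ w ∈ W, w ^ q = 1 → w ∈ A := fun w hw e' => hroot w (hWE hw) e' (hWA w hw)
  have hAK0 : A ≤ C ⊔ B := fun a ha => by
    obtain ⟨ε, hε, b, hb, rfl⟩ := hgenA B hBA rfl hzB a ha
    exact mul_mem (mem_sup_left (zpowers_le.2 h.zC hε)) (mem_sup_right hb)
  -- the index of `C ⊔ B` in `W`
  have hWK : Nat.card W ≤ q ^ 2 * Nat.card ↥(C ⊔ B) := by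
    by_cases hWle : W ≤ C ⊔ B
    · exact (card_le_of_le hWle).trans (Nat.le_mul_of_pos_left _ (pow_pos h.qprime.pos 2))
    obtain ⟨x, hx, hxK⟩ := SetLike.not_le_iff_exists.1 hWle
    rcases h.good_or with hg | ⟨hq2, hC2⟩
    · refine (card_le_mul hK0W (r := q) (fun i => x ^ (i : ℕ)) (fun i => pow_mem hx _) fun w hw => ?_).trans
        (Nat.mul_le_mul_right _ (Nat.le_self_pow two_ne_zero q))
      obtain ⟨i, hi, hik⟩ := hE.exists_pow_mem h hg hWE le_sup_left hK0W
        (fun u hu e' => hAK0 (hrootW u hu e')) hx hxK hw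
      exact ⟨⟨i, hi⟩, hik⟩
    · have hsq : ∀ u ∈ W, u ∉ C ⊔ B → u ^ 2 = z := fun u hu huK =>
        (hC2 _ (hq2 ▸ hE.pow u (hWE hu))).resolve_left fun e' => huK (hAK0 (hrootW u hu (hq2.symm ▸ e')))
      have hpair : ∀ u ∈ W, ∀ w ∈ W, u ∉ C ⊔ B → w ∉ C ⊔ B → u * w ∉ C ⊔ B →
          u * w * u⁻¹ * w⁻¹ = z := by
        intro u hu w hw huK hwK huwK
        refine (h.eq_one_or hq2 (hE.com u (hWE hu) w (hWE hw))).resolve_left fun e' => ?_
        have hc : Commute u w := by
          rw [mul_inv_eq_one, mul_inv_eq_iff_eq_mul] at e'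
          exact e'
        have h1 := hsq _ (mul_mem hu hw) huwK
        rw [hc.mul_pow, hsq u hu huK, hsq w hw hwK] at h1
        exact hz1 (mul_eq_left.1 h1)
      have hz2 : z * z = 1 := by rw [← pow_two, ← hq2, hzq]
      have hinv : ∀ u ∈ W, u ∉ C ⊔ B → u⁻¹ = u * z := fun u hu huK => by
        rw [inv_eq_iff_mul_eq_one, ← mul_assoc, ← pow_two, hsq u hu huK, hz2]
      have hzK : z ∈ C ⊔ B := mem_sup_left h.zC
      have hneg : ∀ u ∈ W, u ∉ C ⊔ B → ∀ k : G, (u⁻¹ * k ∈ C ⊔ B ↔ u * k ∈ C ⊔ B) := by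
        intro u hu huK k
        rw [hinv u hu huK, (hzc u (hWE hu)).eq, mul_assoc]
        exact mul_mem_cancel_left hzK
      by_cases hcase : ∃ y ∈ W, y ∉ C ⊔ B ∧ x * y ∉ C ⊔ B
      · obtain ⟨y, hy, hyK, hxyK⟩ := hcase
        refine (card_le_mul hK0W (r := 4) ![1, x, y, x * y] (fun i => ?_) fun w hw => ?_).trans
          (Nat.mul_le_mul_right _ (by rw [hq2]; norm_num))
        · fin_cases i
          · exact one_mem W
          · exact hx
          · exact hy
          · exact mul_mem hx hy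
        by_contra hcon
        push Not at hcon
        have h0 : w ∉ C ⊔ B := by simpa using hcon 0
        have h1 : x * w ∉ C ⊔ B := fun e' => hcon 1 (by simpa using (hneg x hx hxK w).2 e')
        have h2 : y * w ∉ C ⊔ B := fun e' => hcon 2 (by simpa using (hneg y hy hyK w).2 e')
        have h3 : x * y * w ∉ C ⊔ B := fun e' => hcon 3 (by
          show (x * y)⁻¹ * w ∈ C ⊔ B
          exact (hneg (x * y) (mul_mem hx hy) hxyK w).2 e')
        have c1 := hpair x hx w hw hxK h0 h1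
        have c2 := hpair y hy w hw hyK h0 h2
        have c3 := hpair (x * y) (mul_mem hx hy) w hw hxyK h0 h3
        apply hz1
        calc z = x * y * w * (x * y)⁻¹ * w⁻¹ := c3.symm
          _ = x * (y * w * y⁻¹ * w⁻¹) * (w * x⁻¹ * w⁻¹) := by group
          _ = z * x * (w * x⁻¹ * w⁻¹) := by rw [c2, (hzc x (hWE hx)).eq]
          _ = z * (x * w * x⁻¹ * w⁻¹) := by group
          _ = 1 := by rw [c1, hz2]
      · push Not at hcase
        refine (card_le_mul hK0W (r := 2) ![1, x] (fun i => ?_) fun w hw => ?_).trans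
          (Nat.mul_le_mul_right _ (by rw [hq2]; norm_num))
        · fin_cases i
          · exact one_mem W
          · exact hx
        by_cases hwK : w ∈ C ⊔ B
        · exact ⟨0, by simpa using hwK⟩
        · exact ⟨1, by simpa using (hneg x hx hxK w).2 (hcase w hw hwK)⟩
  -- the orbit bound
  set H₁ := H ⊓ normalizer (B : Set G) with hH₁
  have hWH₁ : W ≤ H₁ := fun w hw => mem_inf.2 ⟨hEH (hWE hw), mem_nrm fun b hb => by
    rw [← (hWB w hw b hb).eq, mul_inv_cancel_right]; exact hb⟩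
  have hbound := h.mod.orbit_bound (U := fix V B) (H₁ := H₁) (W := W) inf_le_left inf_le_left
    (fun u hu x hx => conj_mem_fix (h.mod.nrm hu.1)
      (fun b hb => by simpa using (mem_normalizer_iff.1 (inv_mem hu.2) b).1 hb) hx)
    (le_inf hWH₁ ((hWE.trans hE.le).trans (h.Qle.trans inf_le_right))) hv hv1
  have hWv : centralizer ({v} : Set G) ⊓ W = B := by
    refine le_antisymm (fun x hx => ?_) fun b hb => mem_inf.2
      ⟨mem_centralizer_singleton_iff.2 ((mem_fix.1 hv).2 b hb), hAW (hBA hb)⟩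
    obtain ⟨hxv, hxW⟩ := mem_inf.1 hx
    have hxv' : Commute x v := mem_centralizer_singleton_iff.1 hxv
    have hxq : x ^ q = 1 := hCv _ (hE.pow x (hWE hxW)) (hxv'.pow_left q).eq
    obtain ⟨ε, hε, b, hb, rfl⟩ := hgenA B hBA rfl hzB x (hrootW x hxW hxq)
    have h1 : Commute (ε * b * b⁻¹) v :=
      Commute.mul_left hxv' (Commute.inv_left ((mem_fix.1 hv).2 b hb))
    rw [mul_inv_cancel_right] at h1
    rw [hCv ε (zpowers_le.2 h.zC hε) h1, one_mul]
    exact hb
  rw [← inf_relIndex_right (centralizer ({v} : Set G)) W, hWv] at hbound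
  set r := B.relIndex W with hrdef
  have hr : Nat.card B * r = Nat.card W := by
    have h1 := relIndex_mul_relIndex ⊥ B W bot_le (hBA.trans hAW)
    rwa [relIndex_bot_left, relIndex_bot_left] at h1
  have hrC : Nat.card C ≤ r := by
    refine Nat.le_of_mul_le_mul_left ?_ (Nat.card_pos (α := B))
    rw [hr, mul_comm, ← hK0c]
    exact card_le_of_le hK0W
  have hqC : q ≤ Nat.card C := by
    rw [← h.zord, ← Nat.card_zpowers]
    exact card_le_of_le (zpowers_le.2 h.zC)
  -- the translates of `A`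
  set J := H ⊓ normalizer (A : Set G) with hJdef
  have hJle : ∀ u ∈ J, ∃ u₁ ∈ H₁, u₁⁻¹ * u ∈ D := by
    intro u hu
    obtain ⟨huH, huA⟩ := mem_inf.1 hu
    set B' := B.map (MulAut.conj u).toMonoidHom with hB'
    have hB'A : B' ≤ A := by
      rintro _ ⟨b, hb, rfl⟩
      exact (mem_normalizer_iff.1 huA b).1 (hBA hb)
    have hB'c : Nat.card B' = Nat.card B := card_map_of_injective (MulAut.conj u).injective
    have hzB' : z ∉ B' := by
      rintro ⟨b, hb, hbz⟩
      simp only [MulEquiv.coe_toMonoidHom, MulAut.conj_apply] at hbz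
      have h1 := h.Cn u⁻¹ (inv_mem huH) z h.zC
      rw [← hbz, show u⁻¹ * (u * b * u⁻¹) * u⁻¹⁻¹ = b by group] at h1
      rw [hBC b hb h1] at hbz
      exact hz1 (by simpa using hbz.symm)
    have huniq : ∀ ε ∈ zpowers z, ∀ ε' ∈ zpowers z, ∀ b ∈ B', ∀ b' ∈ B', ε * b = ε' * b' → ε = ε' := by
      intro ε hε ε' hε' b hb b' hb' e'
      have h1 : ε'⁻¹ * ε = b' * b⁻¹ := by
        calc ε'⁻¹ * ε = ε'⁻¹ * (ε * b) * b⁻¹ := by group
          _ = _ := by rw [e']; group
      by_contra hne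
      have hmz : ε'⁻¹ * ε ∈ zpowers z := mul_mem (inv_mem hε') hε
      have hox : orderOf (ε'⁻¹ * ε) = q :=
        orderOf_eq_prime (hAe.2 _ (zpowers_le.2 hzA hmz)) fun e'' => hne (inv_mul_eq_one.1 e'').symm
      have heq := eq_of_le_of_card_ge (zpowers_le.2 hmz)
        (by rw [Nat.card_zpowers, Nat.card_zpowers, h.zord, hox])
      exact hzB' (zpowers_le.2 (h1 ▸ mul_mem hb' (inv_mem hb)) (heq.ge (mem_zpowers z)))
    let f : G → G := fun s => if hs : s ∈ A then
      ((hgenA B' hB'A hB'c hzB' s hs).choose)⁻¹ else 1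
    have hf : ∀ s ∈ A, f s ∈ zpowers z ∧ f s * s ∈ B' := by
      intro s hs
      simp only [f, dif_pos hs]
      obtain ⟨hε, b, hb, e'⟩ := (hgenA B' hB'A hB'c hzB' s hs).choose_spec
      refine ⟨inv_mem hε, ?_⟩
      have h2 : (hgenA B' hB'A hB'c hzB' s hs).choose⁻¹ * s = b := inv_mul_eq_iff_eq_mul.2 e'.symm
      rwa [h2]
    have hfu : ∀ s ∈ A, ∀ ε ∈ zpowers z, ε * s ∈ B' → ε = f s := by
      intro s hs ε hε hεs
      obtain ⟨h1, h2⟩ := hf s hs
      have h3 := huniq ε⁻¹ (inv_mem hε) (f s)⁻¹ (inv_mem h1) _ hεs _ h2 (by group)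
      exact inv_injective h3
    obtain ⟨e', he', hee⟩ := (hE.pairing h hBE).2 f (fun s hs => (hf s (hBA hs)).1)
      (fun s hs t ht => ((hfu (s * t) (mul_mem (hBA hs) (hBA ht)) _
        (mul_mem (hf s (hBA hs)).1 (hf t (hBA ht)).1) (by
          have h1 := (hE.cent s (hBE hs) _ (zpowers_le.2 h.zC (hf t (hBA ht)).1)).eq
          rw [show f s * f t * (s * t) = f s * (f t * s) * t by group, ← h1,
            show f s * (s * f t) * t = (f s * s) * (f t * t) by group]
          exact mul_mem (hf s (hBA hs)).2 (hf t (hBA ht)).2))).symm)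
      (fun s hs hsC => by
        rw [hBC s hs hsC]
        exact (hfu 1 (one_mem A) 1 (one_mem _) (by simp)).symm)
    have hmap : B.map (MulAut.conj e').toMonoidHom = B' := by
      refine eq_of_le_of_card_ge ?_ (by rw [hB'c, card_map_of_injective (MulAut.conj e').injective])
      rintro _ ⟨b, hb, rfl⟩
      show e' * b * e'⁻¹ ∈ B'
      rw [hee b hb]
      exact (hf b (hBA hb)).2
    refine ⟨e'⁻¹ * u, mem_inf.2 ⟨mul_mem (inv_mem (hEH he')) huH, mem_nrm fun b hb => ?_⟩, ?_⟩
    · have h1 : u * b * u⁻¹ ∈ B' := ⟨b, hb, rfl⟩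
      rw [← hmap] at h1
      obtain ⟨b', hb', hbb⟩ := h1
      simp only [MulEquiv.coe_toMonoidHom, MulAut.conj_apply] at hbb
      rw [show e'⁻¹ * u * b * (e'⁻¹ * u)⁻¹ = e'⁻¹ * (u * b * u⁻¹) * e' by group, ← hbb]
      simpa [mul_assoc] using hb'
    · rw [show (e'⁻¹ * u)⁻¹ * u = u⁻¹ * e' * u⁻¹⁻¹ by group]
      exact h.mod.normal.conj_mem e' (h.Qle (hE.le he')).2 _
  have hidx := h.mod.index_le (H₁ := H₁) (J := J) inf_le_left inf_le_left hJle
  -- sizes
  have hk1 : 1 ≤ D.relIndex H₁ := Nat.pos_of_ne_zero index_ne_zero_of_finite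
  set k₁ := D.relIndex H₁ with hk₁
  set X := Nat.card (fix V B) with hX
  set i := J.relIndex H with hi
  have hXr : r ≤ X - 1 := le_trans (Nat.le_mul_of_pos_left _ hk1) hbound
  have hr2 : 2 ≤ r := le_trans h.qprime.two_le (hqC.trans hrC)
  haveI := Fintype.ofFinite (E ⧸ W.subgroupOf E)
  set s := Finset.univ.image (fun c : E ⧸ W.subgroupOf E => B.map (MulAut.conj (c.out : G)).toMonoidHom)
    with hsdef
  have hscard : Nat.card B ≤ s.card := by
    rw [hsdef, Finset.card_image_of_injective _ ?_, Finset.card_univ, ← Nat.card_eq_fintype_card]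
    · have h1 := (hE.pairing h hBE).1
      rw [← inf_relIndex_right C B, show C ⊓ B = ⊥ from (eq_bot_iff_forall _).2
        fun x hx => hBC x hx.2 hx.1, relIndex_bot_left] at h1
      exact h1.ge
    · intro a b hab
      rw [← a.out_eq, ← b.out_eq]
      refine QuotientGroup.eq.2 (mem_subgroupOf.2 ?_)
      rw [coe_mul, coe_inv]
      refine mem_inf.2 ⟨mul_mem (inv_mem a.out.2) b.out.2, mem_centralizer_iff.2 fun w hw => ?_⟩
      set x : G := (a.out : G)
      set y : G := (b.out : G)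
      have h2 : y * w * y⁻¹ ∈ B.map (MulAut.conj x).toMonoidHom :=
        (show B.map (MulAut.conj x).toMonoidHom = B.map (MulAut.conj y).toMonoidHom from hab).ge ⟨w, hw, rfl⟩
      obtain ⟨w', hw', hww⟩ := h2
      simp only [MulEquiv.coe_toMonoidHom, MulAut.conj_apply] at hww
      set u := x⁻¹ * y with hu
      have hw'' : u * w * u⁻¹ = w' := by
        rw [hu, show x⁻¹ * y * w * (x⁻¹ * y)⁻¹ = x⁻¹ * (y * w * y⁻¹) * x by group, ← hww]; group
      have hdB : u * w * u⁻¹ * w⁻¹ ∈ B := by rw [hw'']; exact mul_mem hw' (inv_mem hw)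
      have h3 := hBC _ hdB (zpowers_le.2 h.zC
        (hE.com u (mul_mem (inv_mem a.out.2) b.out.2) w (hBE hw)))
      rw [mul_inv_eq_one, mul_inv_eq_iff_eq_mul] at h3
      exact h3.symm
  have hsprop : ∀ B' ∈ s, B' ≤ A ∧ Nat.card (fix V B') = X ∧ z ∉ B' ∧ Nat.card B' = Nat.card B := by
    intro B' hB'
    obtain ⟨c, -, rfl⟩ := Finset.mem_image.1 hB'
    have hc := c.out.2
    refine ⟨?_, ?_, ?_, card_map_of_injective (MulAut.conj (c.out : G)).injective⟩
    · rintro _ ⟨b, hb, rfl⟩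
      show (c.out : G) * b * (c.out : G)⁻¹ ∈ A
      rw [show (c.out : G) * b * (c.out : G)⁻¹ = ((c.out : G) * b * (c.out : G)⁻¹ * b⁻¹) * b by group]
      exact mul_mem (zpowers_le.2 hzA (hE.com _ hc b (hBE hb))) (hBA hb)
    · rw [hX, ← map_fix (h.mod.nrm (hEH hc)), card_map_of_injective (MulAut.conj (c.out : G)).injective]
    · rintro ⟨b, hb, hbz⟩
      simp only [MulEquiv.coe_toMonoidHom, MulAut.conj_apply] at hbz
      apply hzB
      rw [show z = b from ?_]; exact hb
      calc z = (c.out : G)⁻¹ * z * c.out := by rw [mul_assoc, ← (hzc _ hc).eq, inv_mul_cancel_left]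
        _ = b := by rw [← hbz]; group
  have hpow := h.mod.pow_card_le (X := X) s
    (fun B' hB' => (hsprop B' hB').1.trans ((hAE.trans hE.le).trans h.Qle))
    (fun B' hB' => (hsprop B' hB').2.1)
    (fun B₁ hB₁ B₂ hB₂ b hb b' hb' => hAc b ((hsprop B₁ hB₁).1 hb) b' ((hsprop B₂ hB₂).1 hb'))
    fun B₁ hB₁ B₂ hB₂ hne => (eq_bot_iff_forall _).2 fun x hx => by
      obtain ⟨hle₁, -, hz₁, hc₁⟩ := hsprop B₁ hB₁
      obtain ⟨hle₂, -, -, hc₂⟩ := hsprop B₂ hB₂
      obtain ⟨b, hb, hb'⟩ : ∃ b ∈ B₂, b ∉ B₁ := SetLike.not_le_iff_exists.1 fun hle => hne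
        (eq_of_le_of_card_ge hle (by rw [hc₁, hc₂])).symm
      obtain ⟨ε, hε, b₁, hb₁, he⟩ := hgenA B₁ hle₁ hc₁ hz₁ b (hle₂ hb)
      have hε1 : ε ≠ 1 := fun e' => hb' (by rw [← he, e', one_mul]; exact hb₁)
      refine h.Cfpf ε (zpowers_le.2 h.zC hε) hε1 x (mem_fix.1 hx.1).1 ?_
      have h1 : Commute (b * b₁⁻¹) x :=
        Commute.mul_left ((mem_fix.1 hx.2).2 b hb) (Commute.inv_left ((mem_fix.1 hx.1).2 b₁ hb₁))
      rw [← he, mul_inv_cancel_right] at h1
      exact h1
  have hX3 : 3 ≤ X := by omega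
  have hXB : X ^ Nat.card B ≤ Nat.card V := le_trans (Nat.pow_le_pow_right (by omega) hscard) hpow
  apply not_le.2 h.big
  -- the count of the translates of `A`
  obtain ⟨t, ht⟩ : ∃ t, Nat.card B = q ^ t :=
    (h.Qpg.to_le (hBE.trans hE.le)).exists_card_eq
  have hAcard : Nat.card A = q ^ (t + 1) := by rw [← hcardA, ht, pow_succ]
  have ht1 : 1 ≤ t := by
    rcases Nat.eq_zero_or_pos t with e' | e'
    · rw [e', pow_zero] at ht
      have := h.qprime.two_le
      omega
    · exact e'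
  have hMc : ∀ j, ∀ l ∈ Count.tup E C q Set.univ j,
      Nat.card ↥(E ⊓ centralizer (Count.cl l : Set G)) * q ^ j = Nat.card E := by
    intro j l hl
    obtain ⟨hle, -, hcl, hinf, -⟩ := Count.tup_spec hE.cent j l hl
    have h1 := (hE.pairing h hle).1
    rw [← inf_relIndex_right C (Count.cl l), inf_comm C, hinf, relIndex_bot_left, hcl] at h1
    have h2 := relIndex_mul_relIndex ⊥ (E ⊓ centralizer (Count.cl l : Set G)) E bot_le inf_le_left
    rwa [relIndex_bot_left, relIndex_bot_left, h1] at h2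
  have hAgen : ∀ l ∈ Count.tup E C q (A : Set G) t, ∀ a ∈ A,
      ∃ ε ∈ zpowers z, ∃ b ∈ Count.cl l, ε * b = a := by
    intro l hl
    obtain ⟨-, -, hcl, hinf, hlA⟩ := Count.tup_spec hE.cent t l hl
    refine hgenA _ (Count.cl_le hlA) (by rw [hcl, ht]) fun hm => hz1 ?_
    have : z ∈ Count.cl l ⊓ C := mem_inf.2 ⟨hm, h.zC⟩
    rwa [hinf, mem_bot] at this
  obtain ⟨c, hc1, hc2, hup⟩ : ∃ c, 2 * c ≤ r * (q - 1) ∧ (c + 1) ^ 2 ≤ r ^ 2 * (r + 1) ^ (q - 2) ∧
      ∀ j < t, ∀ l ∈ Count.tup E C q Set.univ j, (Count.cand E C q Set.univ l).card ≤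
        (Nat.card A - q ^ (j + 1)) * (c * q ^ (t - 1 - j) + 1) := by
    rcases h.good_or with hg | ⟨hq2, hC2⟩
    · -- `W` is abelian, hence `W = C ⊔ B`
      have hcomWK : ∀ w ∈ W, ∀ k ∈ C ⊔ B, Commute w k := by
        intro w hw k hk
        obtain ⟨c, hc, b, hb, rfl⟩ := CfsgLib.Coprime.mem_sup_exists hCBnrm hk
        exact (hE.cent w (hWE hw) c hc).mul_right (hWB w hw b hb).symm
      have hWab : ∀ u ∈ W, ∀ w ∈ W, Commute u w := by
        intro u hu w hw
        by_cases huK : u ∈ C ⊔ B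
        · exact (hcomWK w hw u huK).symm
        obtain ⟨i, -, hi⟩ := hE.exists_pow_mem h hg hWE le_sup_left hK0W
          (fun u hu e' => hAK0 (hrootW u hu e')) hu huK hw
        have h1 := ((Commute.refl u).pow_right i).mul_right (hcomWK u hu _ hi)
        rwa [mul_inv_cancel_left] at h1
      have hrC' : r = Nat.card C := by
        refine le_antisymm ?_ hrC
        have h1 := (hE.pairing h hWE).1
        have h2 : W ≤ E ⊓ centralizer (W : Set G) := fun w hw => mem_inf.2
          ⟨hWE hw, mem_centralizer_iff.2 fun u hu => (hWab u hu w hw).eq⟩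
        have h3 : C.relIndex W ≤ Nat.card B := by
          rw [← h1]
          refine (Nat.le_of_dvd ?_ (relIndex_dvd_of_le_left E h2)).trans (le_of_eq ?_)
          · exact Nat.pos_of_ne_zero index_ne_zero_of_finite
          · have h4 := relIndex_mul_relIndex ⊥ W E bot_le hWE
            rw [relIndex_bot_left, relIndex_bot_left, hEW, mul_comm (Nat.card B)] at h4
            exact Nat.eq_of_mul_eq_mul_left Nat.card_pos h4
        have h4 := relIndex_mul_relIndex ⊥ C W bot_le hCW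
        rw [relIndex_bot_left, relIndex_bot_left, ← hr] at h4
        refine Nat.le_of_mul_le_mul_left ?_ (Nat.card_pos (α := B))
        rw [← h4, mul_comm (Nat.card B)]
        exact Nat.mul_le_mul_left _ h3
      have hC4 : q = 2 → 4 ≤ Nat.card C := by
        intro hq2
        obtain ⟨c, hc, hcz⟩ := hg.resolve_left (not_not.2 hq2)
        have h1 : orderOf c = 4 := by
          have := orderOf_eq_prime_pow (p := 2) (n := 1) (x := c)
            (by simp only [pow_one, pow_two, hcz]; exact hz1)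
            (by rw [show 2 ^ (1 + 1) = 2 * 2 by norm_num, _root_.pow_mul, pow_two, pow_two, hcz,
              ← pow_two, ← hq2, hzq])
          simpa using this
        rw [← h1, ← Nat.card_zpowers]
        exact card_le_of_le (zpowers_le.2 hc)
      have hq2' := h.qprime.two_le
      refine ⟨q, ?_, ?_, fun j hj l hl => ?_⟩
      · rcases eq_or_ne q 2 with hq2 | hq2
        · have := hC4 hq2
          rw [hrC', hq2]
          omega
        · calc 2 * q = q * 2 := mul_comm _ _
            _ ≤ r * (q - 1) := Nat.mul_le_mul (hqC.trans hrC) (by omega)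
      · rcases eq_or_ne q 2 with hq2 | hq2
        · have := hC4 hq2
          rw [hrC', hq2]
          simp only [Nat.sub_self, pow_zero, mul_one]
          exact Nat.pow_le_pow_left (by omega) 2
        · calc (q + 1) ^ 2 = (q + 1) * (q + 1) := pow_two _
            _ ≤ r ^ 2 * (r + 1) ^ (q - 2) := Nat.mul_le_mul (by
                calc q + 1 ≤ q * q := by nlinarith
                  _ ≤ r * r := Nat.mul_le_mul (hqC.trans hrC) (hqC.trans hrC)
                  _ = r ^ 2 := (pow_two r).symm) (by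
                calc q + 1 ≤ r + 1 := by have := hqC.trans hrC; omega
                  _ = (r + 1) ^ 1 := (pow_one _).symm
                  _ ≤ _ := Nat.pow_le_pow_right (by omega) (by omega))
      · have h1 := Count.cand_le_good hE.Cle hE.cent h.zord h.zuniq hl
        have h2 := hMc j l hl
        obtain ⟨d, rfl⟩ : ∃ d, t = j + 1 + d := ⟨t - (j + 1), by omega⟩
        rw [show j + 1 + d - 1 - j = d by omega, hAcard]
        have hM : Nat.card ↥(E ⊓ centralizer (Count.cl l : Set G)) =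
            q ^ (j + 2 * d + 2) * Nat.card C := by
          refine Nat.eq_of_mul_eq_mul_right (pow_pos h.qprime.pos j) ?_
          rw [h2, hEW, ← hr, ht, hrC']
          ring
        rw [hM] at h1
        have h3 : (Count.cand E C q Set.univ l).card + q ^ (j + 1) ≤ q ^ (j + 2 * d + 3) := by
          refine Nat.le_of_mul_le_mul_right ?_ (Nat.card_pos (α := C))
          calc ((Count.cand E C q Set.univ l).card + q ^ (j + 1)) * Nat.card C
              = (Count.cand E C q Set.univ l).card * Nat.card C + q * (Nat.card C * q ^ j) := by ring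
            _ ≤ q * (q ^ (j + 2 * d + 2) * Nat.card C) := h1
            _ = _ := by ring
        have e1 : q ^ (j + 1 + d + 1) * (q * q ^ d + 1) =
            q ^ (j + 2 * d + 3) + q ^ (j + 1 + d + 1) := by ring
        have e2 : q ^ (j + 1) * (q * q ^ d + 1) = q ^ (j + 1 + d + 1) + q ^ (j + 1) := by ring
        rw [Nat.sub_mul, e1, e2]
        omega
    · -- every square of `E` lies in `⟨z⟩`
      have hC2c : Nat.card C = 2 := by
        have hCz : C = zpowers z := le_antisymm (fun c hc => by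
          rcases hC2 c hc with rfl | rfl
          · exact one_mem _
          · exact mem_zpowers _) (zpowers_le.2 h.zC)
        rw [hCz, Nat.card_zpowers, h.zord, hq2]
      obtain ⟨w, hw⟩ : ∃ w, Nat.card W = w * (Nat.card C * Nat.card B) := by
        refine ⟨(C ⊔ B).relIndex W, ?_⟩
        have h1 := relIndex_mul_relIndex ⊥ (C ⊔ B) W bot_le hK0W
        rw [relIndex_bot_left, relIndex_bot_left, hK0c] at h1
        rw [← h1, mul_comm]
      rw [hC2c] at hw
      have hw0 : 1 ≤ w := by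
        have := Nat.card_pos (α := W)
        rcases Nat.eq_zero_or_pos w with e' | e'
        · rw [e', zero_mul] at hw; omega
        · exact e'
      have hrw : r = 2 * w := Nat.eq_of_mul_eq_mul_left (Nat.card_pos (α := B)) (by rw [hr, hw]; ring)
      refine ⟨w, by rw [hrw, hq2]; omega, ?_, fun j hj l hl => ?_⟩
      · rw [hrw, hq2]
        simp only [Nat.sub_self, pow_zero, mul_one]
        exact Nat.pow_le_pow_left (by omega) 2
      have hcom : ∀ x ∈ E, ∀ y ∈ E, x * y * x⁻¹ * y⁻¹ ∈ zpowers z := hE.com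
      have hinv := Count.sq_inv (C := C) hq2 hzE (hq2 ▸ h.zord) hzc
        (fun x hx => hC2 _ (hq2 ▸ hE.pow x hx)) hcom
      obtain ⟨l₀, hl₀⟩ : (Count.tup E C q (A : Set G) t).Nonempty := by
        have hne : ∀ i ≤ t, (Count.tup E C q (A : Set G) i).Nonempty := by
          intro i
          induction i with
          | zero => intro _; exact ⟨[], by simp [Count.tup]⟩
          | succ i ih =>
            intro hi
            obtain ⟨l, hl⟩ := ih (by omega)
            have h1 := Count.cand_ge hE.cent h.zord h.zuniq hAE hAe.2 (fun a ha b hb => hAc a ha b hb) hl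
            have h2 : q ^ (i + 1) < Nat.card A := hAcard ▸ Nat.pow_lt_pow_right h.qprime.one_lt (by omega)
            obtain ⟨y, hy⟩ := Finset.card_pos.1 (show 0 < (Count.cand E C q (A : Set G) l).card by omega)
            exact ⟨y :: l, Count.mem_tup_succ.2 ⟨l, hl, y, hy, rfl⟩⟩
        exact hne t le_rfl
      have hM₀ : E ⊓ centralizer (Count.cl l₀ : Set G) = W := by
        obtain ⟨-, -, -, -, hlA⟩ := Count.tup_spec hE.cent t l₀ hl₀
        refine le_antisymm (fun x hx => ?_) fun x hx => mem_inf.2 ⟨hWE hx, mem_centralizer_iff.2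
          fun p hp => (hWA x hx p (Count.cl_le hlA hp)).eq⟩
        obtain ⟨hxE, hxl⟩ := mem_inf.1 hx
        refine mem_inf.2 ⟨hxE, mem_centralizer_iff.2 fun b hb => ?_⟩
        obtain ⟨ε, hε, p, hp, rfl⟩ := hAgen l₀ hl₀ b (hBA hb)
        exact (((hE.cent x hxE ε (zpowers_le.2 h.zC hε)).symm).mul_left
          (mem_centralizer_iff.1 hxl p hp : Commute p x)).eq
      have hN1 := hinv t l₀ (Count.tup_mono (Set.subset_univ _) t hl₀)
      have hW1 : Nat.card {x : G // x ∈ W ∧ x ^ 2 = 1} = Nat.card A :=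
        Nat.card_congr (Equiv.subtypeEquivRight fun x => ⟨fun hx => hrootW x hx.1 (hq2 ▸ hx.2),
          fun hx => ⟨hAW hx, hq2 ▸ hAe.2 x hx⟩⟩)
      rw [hM₀, hW1] at hN1
      have hN2 := hinv j l hl
      have hle := Count.cand_le_bad hq2 hE.Cle hE.cent h.zC (hq2 ▸ h.zord) hl
      have h2 := hMc j l hl
      obtain ⟨d, rfl⟩ : ∃ d, t = j + 1 + d := ⟨t - (j + 1), by omega⟩
      rw [show j + 1 + d - 1 - j = d by omega, hAcard]
      subst hq2
      have hWc : Nat.card W = w * (2 * 2 ^ (j + 1 + d)) := by rw [hw, ht]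
      have hM : Nat.card ↥(E ⊓ centralizer (Count.cl l : Set G)) =
          2 * (w * 2 ^ (j + 2 * d + 2)) := by
        refine Nat.eq_of_mul_eq_mul_right (pow_pos two_pos j) ?_
        rw [h2, hEW, hWc, ht]
        ring
      rw [hWc, hAcard] at hN1
      rw [hM] at hN2
      have e0 : w * (2 * 2 ^ (j + 1 + d)) = w * 2 ^ (j + 1 + d + 1) := by ring
      have e1 : 2 ^ (j + 1 + d + 1) * (w * 2 ^ d + 1) =
          w * 2 ^ (j + 2 * d + 2) + 2 ^ (j + 1 + d + 1) := by ring
      have e2 : 2 * (2 ^ (j + 1) * (w * 2 ^ d + 1)) = w * 2 ^ (j + 1 + d + 1) + 2 * 2 ^ (j + 1) := by ring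
      rw [Nat.sub_mul, e1]
      omega
  have hlo : ∀ j < t, ∀ l ∈ Count.tup E C q (A : Set G) j,
      Nat.card A - q ^ (j + 1) ≤ (Count.cand E C q (A : Set G) l).card := fun j _ l hl =>
    Count.cand_ge hE.cent h.zord h.zuniq hAE hAe.2 (fun a ha b hb => hAc a ha b hb) hl
  have hPne : 0 < (Count.tup E C q (A : Set G) t).card := by
    have hne : ∀ j ≤ t, 0 < (Count.tup E C q (A : Set G) j).card := by
      intro j
      induction j with
      | zero => intro _; simp [Count.tup]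
      | succ j ih =>
        intro hj
        obtain ⟨l, hl⟩ := Finset.card_pos.1 (ih (by omega))
        have h1 := hlo j (by omega) l hl
        have h2 : q ^ (j + 1) < Nat.card A := hAcard ▸ Nat.pow_lt_pow_right h.qprime.one_lt (by omega)
        obtain ⟨y, hy⟩ := Finset.card_pos.1 (show 0 < (Count.cand E C q (A : Set G) l).card by omega)
        exact Finset.card_pos.2 ⟨y :: l, Count.mem_tup_succ.2 ⟨l, hl, y, hy, rfl⟩⟩
    exact hne t le_rfl
  have hiP : i ≤ ∏ u ∈ Finset.range t, (c * q ^ u + 1) := by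
    have h1 := Count.ratio (E := E) (C := C) (q := q) (T := (A : Set G))
      (fun j => Nat.card A - q ^ (j + 1)) (fun j => c * q ^ (t - 1 - j) + 1) t hup hlo t le_rfl
    rw [Count.prod_reflect] at h1
    refine Nat.le_of_mul_le_mul_left (le_trans ?_ h1) hPne
    rw [mul_comm, ← Nat.card_eq_finsetCard, ← Nat.card_eq_finsetCard]
    show Nat.card (H ⧸ J.subgroupOf H) * _ ≤ _
    rw [← Nat.card_prod]
    have hmem : ∀ u ∈ H, ∀ l ∈ Count.tup E C q (A : Set G) t,
        l.map (MulAut.conj u) ∈ Count.tup E C q Set.univ t := fun u hu l hl =>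
      Count.map_mem_tup (MulAut.conj u) (fun x hx => hE.norm u hu x hx)
        (fun x hx => by simpa using h.Cn u⁻¹ (inv_mem hu) x hx) t l hl
    refine Nat.card_le_card_of_injective
      (fun cl : (H ⧸ J.subgroupOf H) × ↥(Count.tup E C q (A : Set G) t) =>
        (⟨cl.2.1.map (MulAut.conj (cl.1.out : G)), hmem _ cl.1.out.2 _ cl.2.2⟩ :
          ↥(Count.tup E C q Set.univ t))) ?_
    rintro ⟨a, l, hl⟩ ⟨b, l', hl'⟩ he
    have he' : l.map (MulAut.conj (a.out : G)) = l'.map (MulAut.conj (b.out : G)) :=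
      congrArg Subtype.val he
    have hab : a = b := by
      rw [← a.out_eq, ← b.out_eq]
      refine QuotientGroup.eq.2 (mem_subgroupOf.2 ?_)
      rw [coe_mul, coe_inv]
      set x : G := (a.out : G)
      set y : G := (b.out : G)
      have hxy : x⁻¹ * y ∈ H := mul_mem (inv_mem a.out.2) b.out.2
      obtain ⟨-, -, -, -, hlA⟩ := Count.tup_spec hE.cent t l hl
      refine mem_inf.2 ⟨hxy, mem_nrm fun s hs => ?_⟩
      obtain ⟨ε, hε, p, hp, rfl⟩ := hAgen l' hl' s hs
      rw [show x⁻¹ * y * (ε * p) * (x⁻¹ * y)⁻¹ =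
        (x⁻¹ * y * ε * (x⁻¹ * y)⁻¹) * (x⁻¹ * y * p * (x⁻¹ * y)⁻¹) by group]
      refine mul_mem (zpowers_le.2 hzA (hzH _ hxy ε hε)) ?_
      have hle : Count.cl l' ≤ A.comap (MulAut.conj (x⁻¹ * y)).toMonoidHom := Count.cl_le fun m hm => by
        have h2 : MulAut.conj y m ∈ l.map (MulAut.conj x) := he' ▸ List.mem_map_of_mem hm
        obtain ⟨m₀, hm₀, hmm⟩ := List.mem_map.1 h2
        simp only [MulAut.conj_apply] at hmm
        show x⁻¹ * y * m * (x⁻¹ * y)⁻¹ ∈ A
        rw [show x⁻¹ * y * m * (x⁻¹ * y)⁻¹ = x⁻¹ * (y * m * y⁻¹) * x by group, ← hmm,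
          show x⁻¹ * (x * m₀ * x⁻¹) * x = m₀ by group]
        exact hlA m₀ hm₀
      exact hle hp
    subst hab
    exact Prod.ext rfl (Subtype.ext ((List.map_injective_iff.2
      (MulAut.conj (a.out : G)).injective) he'))
  refine le_trans (Count.index_bound (r := r) (P := ∏ u ∈ Finset.range t, (c * q ^ u + 1))
    (b := Nat.card B) (by omega) hXr (h.qprime.two_le.trans hBq) ?_ ?_) hXB
  · calc D.index * r ≤ i * k₁ * r := Nat.mul_le_mul_right _ hidx
      _ = i * (k₁ * r) := mul_assoc _ _ _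
      _ ≤ _ := Nat.mul_le_mul hiP hbound
  · rw [ht]
    exact Count.prod_sq_le h.qprime.two_le hc1 hc2 t ht1

end CfsgLib.DerangeIndex
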