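import Cfsg.Agent.Lib.Perm.DerangeIndex.Noncyclic

/-!
The number of maximal elementary abelian subgroups over the centre in a group of class two with a
perfect commutator pairing: lists of generators are counted.
-/

set_option autoImplicit false
set_option linter.unusedSectionVars false

open Subgroup

namespace CfsgLib.DerangeIndex.Count

variable {G : Type*} [Group G] [Finite G]

/-- The subgroup generated by a list. -/
def cl (l : List G) : Subgroup G := closure {x | x ∈ l}

theorem cl_nil : cl ([] : List G) = ⊥ := by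
  have h : {x : G | x ∈ ([] : List G)} = ∅ := Set.ext fun x => by simp
  rw [cl, h, Subgroup.closure_empty]

theorem cl_cons (y : G) (l : List G) : cl (y :: l) = zpowers y ⊔ cl l := by
  have h : {x : G | x ∈ y :: l} = {y} ∪ {x | x ∈ l} := Set.ext fun x => by simp
  rw [cl, h, Subgroup.closure_union, zpowers_eq_closure]
  rfl

theorem cl_le {l : List G} {K : Subgroup G} (h : ∀ x ∈ l, x ∈ K) : cl l ≤ K := (closure_le K).2 h

theorem mem_cl {l : List G} {x : G} (h : x ∈ l) : x ∈ cl l := subset_closure h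

theorem commute_cl {l : List G} {y : G} (h : ∀ x ∈ l, Commute x y) : ∀ p ∈ cl l, Commute p y := by
  intro p hp
  refine mem_centralizer_singleton_iff.1 ((closure_le (centralizer ({y} : Set G))).2 ?_ hp)
  exact fun x hx => mem_centralizer_singleton_iff.2 (h x hx)

/-- The elements that may be added to a list. -/
noncomputable def cand (E C : Subgroup G) (q : ℕ) (T : Set G) (l : List G) : Finset G :=
  letI := Fintype.ofFinite G
  letI := Classical.propDecidable
  Finset.univ.filter fun y => y ∈ E ∧ (∀ x ∈ l, Commute x y) ∧ y ^ q = 1 ∧ y ∉ C ⊔ cl l ∧ y ∈ T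

theorem mem_cand {E C : Subgroup G} {q : ℕ} {T : Set G} {l : List G} {y : G} :
    y ∈ cand E C q T l ↔ y ∈ E ∧ (∀ x ∈ l, Commute x y) ∧ y ^ q = 1 ∧ y ∉ C ⊔ cl l ∧ y ∈ T := by
  simp [cand]

/-- Lists of independent commuting elements of order `q`. -/
noncomputable def tup (E C : Subgroup G) (q : ℕ) (T : Set G) : ℕ → Finset (List G)
  | 0 => {[]}
  | j + 1 =>
    letI := Classical.decEq G
    (tup E C q T j).biUnion fun l => (cand E C q T l).image (· :: l)

theorem card_tup_succ (E C : Subgroup G) (q : ℕ) (T : Set G) (j : ℕ) :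
    (tup E C q T (j + 1)).card = ∑ l ∈ tup E C q T j, (cand E C q T l).card := by
  classical
  rw [tup, Finset.card_biUnion]
  · exact Finset.sum_congr rfl fun l _ =>
      Finset.card_image_of_injective _ fun a b h => (List.cons.inj h).1
  · intro a _ b _ hab
    refine Finset.disjoint_left.2 fun x hx hx' => hab ?_
    simp only [Finset.mem_image] at hx hx'
    obtain ⟨u, -, rfl⟩ := hx
    obtain ⟨v, -, hv⟩ := hx'
    exact (List.cons.inj hv).2.symm

theorem mem_tup_succ {E C : Subgroup G} {q : ℕ} {T : Set G} {j : ℕ} {l : List G} :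
    l ∈ tup E C q T (j + 1) ↔ ∃ t ∈ tup E C q T j, ∃ y ∈ cand E C q T t, y :: t = l := by
  classical
  simp [tup]

theorem tup_mono {E C : Subgroup G} {q : ℕ} {T T' : Set G} (hT : T ⊆ T') :
    ∀ j, tup E C q T j ⊆ tup E C q T' j := by
  intro j
  induction j with
  | zero => exact subset_rfl
  | succ j ih =>
    intro l hl
    obtain ⟨t, ht, y, hy, rfl⟩ := mem_tup_succ.1 hl
    obtain ⟨h1, h2, h3, h4, h5⟩ := mem_cand.1 hy
    exact mem_tup_succ.2 ⟨t, ih ht, y, mem_cand.2 ⟨h1, h2, h3, h4, hT h5⟩, rfl⟩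

/-- The lists are permuted by automorphisms fixing `E` and `C`. -/
theorem map_mem_tup {E C : Subgroup G} {q : ℕ} {T : Set G} (φ : G ≃* G)
    (hE : ∀ x ∈ E, φ x ∈ E) (hC : ∀ x ∈ C, φ.symm x ∈ C) :
    ∀ j, ∀ l ∈ tup E C q T j, l.map φ ∈ tup E C q Set.univ j := by
  intro j
  induction j with
  | zero => intro l hl; simp only [tup, Finset.mem_singleton] at hl ⊢; simp [hl]
  | succ j ih =>
    intro l hl
    obtain ⟨t, ht, y, hy, rfl⟩ := mem_tup_succ.1 hl
    obtain ⟨h1, h2, h3, h4, -⟩ := mem_cand.1 hy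
    refine mem_tup_succ.2 ⟨t.map φ, ih t ht, φ y, mem_cand.2 ⟨hE y h1, ?_, ?_, fun hm => h4 ?_,
      Set.mem_univ _⟩, by simp⟩
    · intro x hx
      obtain ⟨x₀, hx₀, rfl⟩ := List.mem_map.1 hx
      exact (h2 x₀ hx₀).map φ
    · rw [← map_pow, h3, map_one]
    · have hle : C ⊔ cl (t.map φ) ≤ (C ⊔ cl t).comap φ.symm.toMonoidHom := by
        refine sup_le (fun c hc => mem_sup_left (hC c hc)) (cl_le fun x hx => ?_)
        obtain ⟨x₀, hx₀, rfl⟩ := List.mem_map.1 hx
        simpa using mem_sup_right (S := C) (mem_cl hx₀)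
      simpa using hle hm

variable {E C : Subgroup G} {q : ℕ} {z : G}

/-- The properties of the lists. -/
theorem tup_spec [hq : Fact q.Prime] (hcent : ∀ x ∈ E, ∀ c ∈ C, Commute x c) {T : Set G} :
    ∀ j, ∀ l ∈ tup E C q T j, cl l ≤ E ∧ (∀ a ∈ cl l, ∀ b ∈ cl l, Commute a b) ∧
      Nat.card ↥(cl l) = q ^ j ∧ cl l ⊓ C = ⊥ ∧ ∀ x ∈ l, x ∈ T := by
  intro j
  induction j with
  | zero =>
    intro l hl
    simp only [tup, Finset.mem_singleton] at hl
    subst hl
    rw [cl_nil]
    refine ⟨bot_le, fun a ha b _ => ?_, by simp, bot_inf_eq C, by simp⟩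
    rw [mem_bot.1 ha]
    exact Commute.one_left b
  | succ j ih =>
    intro l hl
    obtain ⟨t, ht, y, hy, rfl⟩ := mem_tup_succ.1 hl
    obtain ⟨hyE, hyt, hyq, hyK, hyT⟩ := mem_cand.1 hy
    obtain ⟨hle, hab, hcard, hinf, hTt⟩ := ih t ht
    have hyP : ∀ p ∈ cl t, Commute p y := commute_cl hyt
    have hnrm : cl t ≤ normalizer (zpowers y : Set G) := fun p hp => mem_nrm fun x hx => by
      obtain ⟨i, rfl⟩ := mem_zpowers_iff.1 hx
      rw [((hyP p hp).zpow_right i).eq, mul_inv_cancel_right]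
      exact zpow_mem (mem_zpowers y) i
    have hyne : y ≠ 1 := fun e => hyK (e ▸ one_mem _)
    have hyo : orderOf y = q := orderOf_eq_prime hyq hyne
    have hout : ∀ x ∈ zpowers y, x ∈ C ⊔ cl t → x = 1 := by
      intro x hx hxK
      by_contra hx1
      refine hyK (zpowers_le.2 hxK ?_)
      obtain ⟨i, rfl⟩ := mem_zpowers_iff.1 hx
      have hox : orderOf (y ^ i) = q := orderOf_eq_prime (by
        rw [← zpow_natCast, ← zpow_mul, mul_comm, zpow_mul, zpow_natCast, hyq, one_zpow]) hx1
      exact (eq_of_le_of_card_ge (zpowers_le.2 (zpow_mem (mem_zpowers y) i))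
        (by rw [Nat.card_zpowers, Nat.card_zpowers, hyo, hox])).ge (mem_zpowers y)
    rw [cl_cons]
    refine ⟨sup_le (zpowers_le.2 hyE) hle, ?_, ?_, ?_, fun x hx => ?_⟩
    · intro a ha b hb
      obtain ⟨a₁, ha₁, a₂, ha₂, rfl⟩ := CfsgLib.Coprime.mem_sup_exists hnrm ha
      obtain ⟨b₁, hb₁, b₂, hb₂, rfl⟩ := CfsgLib.Coprime.mem_sup_exists hnrm hb
      have hc : ∀ p ∈ cl t, ∀ x ∈ zpowers y, Commute x p := fun p hp x hx => by
        obtain ⟨i, rfl⟩ := mem_zpowers_iff.1 hx
        exact ((hyP p hp).zpow_right i).symm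
      have h11 : Commute a₁ b₁ := by
        obtain ⟨i, rfl⟩ := mem_zpowers_iff.1 ha₁
        obtain ⟨k, rfl⟩ := mem_zpowers_iff.1 hb₁
        exact Commute.zpow_zpow_self y i k
      exact Commute.mul_left (h11.mul_right (hc b₂ hb₂ a₁ ha₁))
        (((hc a₂ ha₂ b₁ hb₁).symm).mul_right (hab a₂ ha₂ b₂ hb₂))
    · rw [CfsgLib.CFun.ZLen.card_sup_eq hnrm ((eq_bot_iff_forall _).2
        fun x hx => hout x hx.1 (mem_sup_right hx.2)), Nat.card_zpowers, hyo, hcard, pow_succ']
    · refine (eq_bot_iff_forall _).2 fun x hx => ?_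
      obtain ⟨a, ha, b, hb, rfl⟩ := CfsgLib.Coprime.mem_sup_exists hnrm hx.1
      have ha1 := hout a ha (by
        simpa using mul_mem (mem_sup_left (T := cl t) hx.2) (inv_mem (mem_sup_right (S := C) hb)))
      rw [ha1, one_mul]
      have : b ∈ cl t ⊓ C := mem_inf.2 ⟨hb, by simpa [ha1] using hx.2⟩
      rwa [hinf, mem_bot] at this
    · rcases List.mem_cons.1 hx with rfl | hx'
      · exact hyT
      · exact hTt x hx'

/-- Comparing the number of all lists with the number of lists inside a subgroup. -/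
theorem ratio {T : Set G} (β φ : ℕ → ℕ) (t : ℕ)
    (hup : ∀ j < t, ∀ l ∈ tup E C q Set.univ j, (cand E C q Set.univ l).card ≤ β j * φ j)
    (hlo : ∀ j < t, ∀ l ∈ tup E C q T j, β j ≤ (cand E C q T l).card) :
    ∀ j ≤ t, (tup E C q Set.univ j).card ≤ (tup E C q T j).card * ∏ i ∈ Finset.range j, φ i := by
  intro j
  induction j with
  | zero => intro _; simp [tup]
  | succ j ih =>
    intro hj
    have h1 : (tup E C q Set.univ (j + 1)).card ≤ (tup E C q Set.univ j).card * (β j * φ j) := by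
      rw [card_tup_succ]
      exact Finset.sum_le_card_nsmul _ _ _ fun l hl => hup j (by omega) l hl
    have h2 : (tup E C q T j).card * β j ≤ (tup E C q T (j + 1)).card := by
      rw [card_tup_succ]
      exact Finset.card_nsmul_le_sum _ _ _ fun l hl => hlo j (by omega) l hl
    rw [Finset.prod_range_succ]
    calc (tup E C q Set.univ (j + 1)).card ≤ (tup E C q Set.univ j).card * (β j * φ j) := h1
      _ ≤ ((tup E C q T j).card * ∏ i ∈ Finset.range j, φ i) * (β j * φ j) :=
          Nat.mul_le_mul_right _ (ih (by omega))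
      _ = (tup E C q T j).card * β j * ((∏ i ∈ Finset.range j, φ i) * φ j) := by ring
      _ ≤ _ := Nat.mul_le_mul_right _ h2

/-- The lower bound for the choices inside an elementary abelian subgroup `A ∋ z`. -/
theorem cand_ge [hq : Fact q.Prime] (hcent : ∀ x ∈ E, ∀ c ∈ C, Commute x c) (hz : orderOf z = q)
    (hzu : ∀ x ∈ C, x ^ q = 1 → x ∈ zpowers z) {A : Subgroup G} (hAE : A ≤ E)
    (hAq : ∀ a ∈ A, a ^ q = 1) (hAc : ∀ a ∈ A, ∀ b ∈ A, Commute a b) {j : ℕ} {l : List G}
    (hl : l ∈ tup E C q (A : Set G) j) :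
    Nat.card A - q ^ (j + 1) ≤ (cand E C q (A : Set G) l).card := by
  classical
  letI := Fintype.ofFinite G
  obtain ⟨hle, -, hcard, -, hlA⟩ := tup_spec hcent j l hl
  have hPA : cl l ≤ A := cl_le hlA
  have hnrm : cl l ≤ normalizer (C : Set G) := fun p hp => mem_nrm fun c hc => by
    rw [(hcent p (hle hp) c hc).eq, mul_inv_cancel_right]
    exact hc
  set K : Finset G := Finset.univ.filter fun y => y ∈ A ∧ y ∈ C ⊔ cl l with hK
  have hKc : K.card ≤ q ^ (j + 1) := by
    have h1 : K ⊆ ((Finset.univ : Finset (zpowers z × cl l)).image fun p => (p.1 : G) * p.2) := by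
      intro y hy
      simp only [hK, Finset.mem_filter, Finset.mem_univ, true_and] at hy
      obtain ⟨c, hc, p, hp, rfl⟩ := CfsgLib.Coprime.mem_sup_exists hnrm hy.2
      have hcA : c ∈ A := by simpa using mul_mem hy.1 (inv_mem (hPA hp))
      exact Finset.mem_image.2 ⟨(⟨c, hzu c hc (hAq c hcA)⟩, ⟨p, hp⟩), Finset.mem_univ _, rfl⟩
    refine (Finset.card_le_card h1).trans (Finset.card_image_le.trans ?_)
    rw [Finset.card_univ, ← Nat.card_eq_fintype_card, Nat.card_prod, Nat.card_zpowers, hz, hcard,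
      pow_succ']
  have hsub : Finset.univ.filter (fun y => y ∈ A) ⊆ cand E C q (A : Set G) l ∪ K := by
    intro y hy
    simp only [Finset.mem_filter, Finset.mem_univ, true_and] at hy
    by_cases hyK : y ∈ C ⊔ cl l
    · exact Finset.mem_union_right _ (by simp [hK, hy, hyK])
    · exact Finset.mem_union_left _
        (mem_cand.2 ⟨hAE hy, fun x hx => hAc x (hlA x hx) y hy, hAq y hy, hyK, hy⟩)
  have h2 := (Finset.card_le_card hsub).trans (Finset.card_union_le _ _)
  have h3 : (Finset.univ.filter fun y => y ∈ A).card = Nat.card A := by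
    rw [Nat.card_eq_fintype_card, Fintype.card_subtype]
  omega

/-- The choices when the `q`-th roots are unique up to `⟨z⟩`. -/
theorem cand_le_good [hq : Fact q.Prime] (hCle : C ≤ E) (hcent : ∀ x ∈ E, ∀ c ∈ C, Commute x c)
    (hz : orderOf z = q) (hzu : ∀ x ∈ C, x ^ q = 1 → x ∈ zpowers z) {j : ℕ} {l : List G}
    (hl : l ∈ tup E C q Set.univ j) :
    (cand E C q Set.univ l).card * Nat.card C + q * (Nat.card C * q ^ j) ≤
      q * Nat.card ↥(E ⊓ centralizer (cl l : Set G)) := by
  classical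
  letI := Fintype.ofFinite G
  obtain ⟨hle, hab, hcard, hinf, -⟩ := tup_spec hcent j l hl
  have hnrm : cl l ≤ normalizer (C : Set G) := fun p hp => mem_nrm fun c hc => by
    rw [(hcent p (hle hp) c hc).eq, mul_inv_cancel_right]
    exact hc
  set M := E ⊓ centralizer (cl l : Set G) with hM
  have hCM : C ≤ M := fun c hc => mem_inf.2 ⟨hCle hc,
    mem_centralizer_iff.2 fun p hp => (hcent p (hle hp) c hc).eq⟩
  have hPM : cl l ≤ M := fun p hp => mem_inf.2 ⟨hle hp,
    mem_centralizer_iff.2 fun p' hp' => (hab p' hp' p hp).eq⟩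
  have hKc : Nat.card ↥(C ⊔ cl l) = Nat.card C * q ^ j := by
    rw [CfsgLib.CFun.ZLen.card_sup_eq hnrm (by rw [inf_comm]; exact hinf), hcard]
  set MK : Finset G := Finset.univ.filter fun y => y ∈ M ∧ y ∉ C ⊔ cl l with hMK
  have hMKc : MK.card + Nat.card C * q ^ j = Nat.card M := by
    rw [← hKc, Nat.card_eq_fintype_card, Nat.card_eq_fintype_card, Fintype.card_subtype,
      Fintype.card_subtype, ← Finset.card_union_of_disjoint ?_]
    · congr 1
      ext y
      simp only [hMK, Finset.mem_union, Finset.mem_filter, Finset.mem_univ, true_and]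
      exact ⟨fun h => h.elim (fun h => h.1) fun h => sup_le hCM hPM h,
        fun h => (em (y ∈ C ⊔ cl l)).elim Or.inr fun h' => Or.inl ⟨h, h'⟩⟩
    · exact Finset.disjoint_left.2 fun y hy hy' => by
        simp only [hMK, Finset.mem_filter] at hy hy'
        exact hy.2.2 hy'.2
  set s := cand E C q Set.univ l ×ˢ (Finset.univ.filter fun c => c ∈ C) with hs
  have hsc : s.card = (cand E C q Set.univ l).card * Nat.card C := by
    rw [hs, Finset.card_product, Nat.card_eq_fintype_card, Fintype.card_subtype]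
  have himg : s.card ≤ q * MK.card := by
    refine Finset.card_le_mul_card_image_of_maps_to (f := fun p => p.1 * p.2) (fun p hp => ?_) q
      fun m _ => ?_
    · simp only [hs, Finset.mem_product, Finset.mem_filter, Finset.mem_univ, true_and] at hp
      obtain ⟨hp1, hp2⟩ := hp
      obtain ⟨h1, h2, -, h4, -⟩ := mem_cand.1 hp1
      simp only [hMK, Finset.mem_filter, Finset.mem_univ, true_and]
      refine ⟨mul_mem (mem_inf.2 ⟨h1, mem_centralizer_iff.2 fun p hp => (commute_cl h2 p hp).eq⟩)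
        (hCM hp2), fun hm => h4 ?_⟩
      simpa using mul_mem hm (inv_mem (mem_sup_left (T := cl l) hp2))
    · rcases (s.filter fun p => p.1 * p.2 = m).eq_empty_or_nonempty with he | ⟨p₀, hp₀⟩
      · rw [he]; simp
      simp only [hs, Finset.mem_filter, Finset.mem_product, Finset.mem_univ, true_and] at hp₀
      refine le_trans (Finset.card_le_card_of_injOn (fun p => p₀.1⁻¹ * p.1)
        (t := Finset.univ.filter fun x => x ∈ zpowers z) (fun p hp => ?_) fun p hp p' hp' e => ?_) ?_
      · simp only [hs, Finset.coe_filter, Set.mem_setOf_eq, Finset.mem_product, Finset.mem_filter,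
          Finset.mem_univ, true_and] at hp
        simp only [Finset.coe_filter, Set.mem_setOf_eq, Finset.mem_univ, true_and]
        have h1 : p₀.1⁻¹ * p.1 = p₀.2 * p.2⁻¹ := by
          rw [inv_mul_eq_iff_eq_mul, ← mul_assoc, hp₀.2, ← hp.2, mul_inv_cancel_right]
        refine hzu _ (h1 ▸ mul_mem hp₀.1.2 (inv_mem hp.1.2)) ?_
        have h2 : Commute p₀.1 (p₀.1⁻¹ * p.1) := by
          rw [h1]; exact hcent _ (mem_cand.1 hp₀.1.1).1 _ (mul_mem hp₀.1.2 (inv_mem hp.1.2))
        have h3 := h2.mul_pow q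
        rwa [mul_inv_cancel_left, (mem_cand.1 hp.1.1).2.2.1, (mem_cand.1 hp₀.1.1).2.2.1, one_mul,
          eq_comm] at h3
      · simp only [hs, Finset.coe_filter, Set.mem_setOf_eq, Finset.mem_product, Finset.mem_filter,
          Finset.mem_univ, true_and] at hp hp'
        have h1 : p.1 = p'.1 := mul_left_cancel e
        refine Prod.ext h1 (mul_left_cancel (a := p.1) ?_)
        rw [hp.2, h1, hp'.2]
      · rw [← Fintype.card_subtype, ← Nat.card_eq_fintype_card]
        exact le_of_eq ((Nat.card_zpowers z).trans hz)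
  rw [← hMKc, mul_add]
  omega

/-- When every square of `E` lies in `⟨z⟩`, the excess of involutions is the same in all centralisers. -/
theorem sq_inv [hq : Fact q.Prime] (hq2 : q = 2) (hzE : z ∈ E) (hz : orderOf z = 2)
    (hzc : ∀ x ∈ E, Commute x z) (hsq : ∀ x ∈ E, x ^ 2 = 1 ∨ x ^ 2 = z)
    (hcom : ∀ x ∈ E, ∀ y ∈ E, x * y * x⁻¹ * y⁻¹ ∈ zpowers z) :
    ∀ j, ∀ l ∈ tup E C q Set.univ j,
      2 * Nat.card {x : G // x ∈ E ∧ x ^ 2 = 1} + Nat.card ↥(E ⊓ centralizer (cl l : Set G)) =
        2 * Nat.card {x : G // x ∈ E ⊓ centralizer (cl l : Set G) ∧ x ^ 2 = 1} + Nat.card E := by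
  classical
  letI := Fintype.ofFinite G
  subst hq2
  have hz2 : z * z = 1 := by rw [← pow_two, ← hz]; exact pow_orderOf_eq_one z
  have hz1 : z ≠ 1 := fun e => by simp [e] at hz
  have hzp : ∀ x ∈ zpowers z, x = 1 ∨ x = z := by
    intro x hx
    obtain ⟨i, rfl⟩ := mem_zpowers_iff.1 hx
    rcases Int.even_or_odd i with ⟨k, rfl⟩ | ⟨k, rfl⟩
    · left; rw [← two_mul, zpow_mul, zpow_two, hz2, one_zpow]
    · right; rw [zpow_add, zpow_one, zpow_mul, zpow_two, hz2, one_zpow, one_mul]
  intro j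
  induction j with
  | zero =>
    intro l hl
    simp only [tup, Finset.mem_singleton] at hl
    subst hl
    have h : E ⊓ centralizer (cl ([] : List G) : Set G) = E := inf_eq_left.2 fun x _ =>
      mem_centralizer_iff.2 fun p hp => by
        rw [cl_nil] at hp
        rw [mem_bot.1 hp]; simp
    rw [h]
  | succ j ih =>
    intro l hl
    obtain ⟨t, ht, y, hy, rfl⟩ := mem_tup_succ.1 hl
    obtain ⟨hyE, hyt, hyq, -, -⟩ := mem_cand.1 hy
    have hh := ih t ht
    set M := E ⊓ centralizer (cl t : Set G) with hM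
    have hyM : y ∈ M := mem_inf.2 ⟨hyE, mem_centralizer_iff.2 fun p hp => (commute_cl hyt p hp).eq⟩
    have hM' : ∀ x, x ∈ E ⊓ centralizer (cl (y :: t) : Set G) ↔ x ∈ M ∧ Commute y x := by
      intro x
      simp only [hM, mem_inf, mem_centralizer_iff, cl_cons]
      constructor
      · exact fun h => ⟨⟨h.1, fun p hp => h.2 p (mem_sup_right hp)⟩,
          h.2 y (mem_sup_left (mem_zpowers y))⟩
      · rintro ⟨⟨h1, h2⟩, h3⟩
        refine ⟨h1, fun p hp => ?_⟩
        have hle : zpowers y ⊔ cl t ≤ centralizer ({x} : Set G) :=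
          sup_le (zpowers_le.2 (mem_centralizer_singleton_iff.2 h3))
            fun p hp => mem_centralizer_singleton_iff.2 (h2 p hp)
        exact mem_centralizer_singleton_iff.1 (hle hp)
    set O1 : Finset G := Finset.univ.filter fun x => (x ∈ M ∧ ¬ Commute y x) ∧ x ^ 2 = 1 with hO1
    set O2 : Finset G := Finset.univ.filter fun x => (x ∈ M ∧ ¬ Commute y x) ∧ ¬ x ^ 2 = 1 with hO2
    have hsq' : ∀ x, x ∈ M → ¬ Commute y x → ((x * y) ^ 2 = 1 ↔ ¬ x ^ 2 = 1) ∧
        x * y ∈ M ∧ ¬ Commute y (x * y) := by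
      intro x hx hxy
      have hxE : x ∈ E := (mem_inf.1 hx).1
      refine ⟨?_, mul_mem hx hyM, fun h => hxy (by
        have h1 := h.mul_right (Commute.inv_right (Commute.refl y))
        rwa [mul_inv_cancel_right] at h1)⟩
      have hyx : y * x * y⁻¹ * x⁻¹ = z := by
        refine (hzp _ (hcom y hyE x hxE)).resolve_left fun e => hxy ?_
        rw [mul_inv_eq_one, mul_inv_eq_iff_eq_mul] at e
        exact e
      have hyi : y⁻¹ = y := inv_eq_of_mul_eq_one_left (by rw [← pow_two]; exact hyq)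
      have h2 : (x * y) ^ 2 = z * x ^ 2 := by
        calc (x * y) ^ 2 = x * (y * x * y⁻¹ * x⁻¹) * x * (y * y) := by rw [pow_two]; group
          _ = x * z * x := by rw [hyx, ← pow_two, hyq, mul_one]
          _ = z * x ^ 2 := by rw [(hzc x hxE).eq, pow_two, mul_assoc]
      rw [h2]
      rcases hsq x hxE with h | h
      · simp [h, hz1]
      · simp [h, hz2, hz1]
    have h12 : O1.card = O2.card := by
      refine le_antisymm (Finset.card_le_card_of_injOn (· * y) (fun x hx => ?_)
        (fun a _ b _ e => mul_right_cancel e)) (Finset.card_le_card_of_injOn (· * y) (fun x hx => ?_)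
        (fun a _ b _ e => mul_right_cancel e))
      all_goals
        simp only [hO1, hO2, Finset.coe_filter, Set.mem_setOf_eq, Finset.mem_univ, true_and] at hx ⊢
        obtain ⟨h1, h2, h3⟩ := hsq' x hx.1.1 hx.1.2
        exact ⟨⟨h2, h3⟩, by tauto⟩
    have e1 : Nat.card M = Nat.card ↥(E ⊓ centralizer (cl (y :: t) : Set G)) + (O1.card + O2.card) := by
      have a1 : Nat.card M = (Finset.univ.filter fun x => x ∈ M).card := by
        rw [Nat.card_eq_fintype_card, Fintype.card_subtype]
      have a2 : Nat.card ↥(E ⊓ centralizer (cl (y :: t) : Set G)) =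
          (Finset.univ.filter fun x => x ∈ M ∧ Commute y x).card := by
        rw [Nat.card_eq_fintype_card, Fintype.card_subtype]
        exact congrArg Finset.card (Finset.filter_congr fun x _ => hM' x)
      rw [a1, a2, ← Finset.card_union_of_disjoint (Finset.disjoint_left.2 fun x h h' => by
        simp only [hO1, hO2, Finset.mem_filter] at h h'; exact h'.2.2 h.2.2),
        ← Finset.card_union_of_disjoint (Finset.disjoint_left.2 fun x h h' => by
        simp only [hO1, hO2, Finset.mem_union, Finset.mem_filter] at h h'; tauto)]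
      congr 1
      ext x
      simp only [hO1, hO2, Finset.mem_union, Finset.mem_filter, Finset.mem_univ, true_and]
      tauto
    have e2 : Nat.card {x : G // x ∈ M ∧ x ^ 2 = 1} =
        Nat.card {x : G // x ∈ E ⊓ centralizer (cl (y :: t) : Set G) ∧ x ^ 2 = 1} + O1.card := by
      rw [Nat.card_eq_fintype_card, Nat.card_eq_fintype_card, Fintype.card_subtype, Fintype.card_subtype,
        ← Finset.card_union_of_disjoint (Finset.disjoint_left.2 fun x h h' => by
          simp only [hO1, Finset.mem_filter, hM'] at h h'; tauto)]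
      congr 1
      ext x
      simp only [hO1, Finset.mem_union, Finset.mem_filter, Finset.mem_univ, true_and, hM']
      tauto
    omega

/-- The choices when every square of `E` lies in `⟨z⟩`. -/
theorem cand_le_bad [hq : Fact q.Prime] (hq2 : q = 2) (hCle : C ≤ E)
    (hcent : ∀ x ∈ E, ∀ c ∈ C, Commute x c) (hzC : z ∈ C) (hz : orderOf z = 2) {j : ℕ} {l : List G}
    (hl : l ∈ tup E C q Set.univ j) :
    (cand E C q Set.univ l).card + 2 ^ (j + 1) ≤
      Nat.card {x : G // x ∈ E ⊓ centralizer (cl l : Set G) ∧ x ^ 2 = 1} := by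
  classical
  letI := Fintype.ofFinite G
  subst hq2
  obtain ⟨hle, hab, hcard, hinf, -⟩ := tup_spec hcent j l hl
  have hnrm : cl l ≤ normalizer (zpowers z : Set G) := fun p hp => mem_nrm fun x hx => by
    rw [(hcent p (hle hp) x (zpowers_le.2 hzC hx)).eq, mul_inv_cancel_right]
    exact hx
  have hZc : Nat.card ↥(zpowers z ⊔ cl l) = 2 ^ (j + 1) := by
    rw [CfsgLib.CFun.ZLen.card_sup_eq hnrm (le_bot_iff.1 (le_trans
      (inf_le_inf_right _ (zpowers_le.2 hzC)) (by rw [inf_comm, hinf]))), Nat.card_zpowers, hz, hcard,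
      pow_succ']
  have hpow : ∀ p ∈ cl l, p ^ 2 = 1 := by
    intro p hp
    have hgen : ∀ x ∈ l, x ^ 2 = 1 := by
      clear hp hab hcard hinf hZc hnrm hle
      induction j generalizing l with
      | zero => simp only [tup, Finset.mem_singleton] at hl; simp [hl]
      | succ j ih =>
        obtain ⟨t, ht, y, hy, rfl⟩ := mem_tup_succ.1 hl
        intro x hx
        rcases List.mem_cons.1 hx with rfl | hx'
        · exact (mem_cand.1 hy).2.2.1
        · exact ih ht x hx'
    induction hp using Subgroup.closure_induction with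
    | mem x hx => exact hgen x hx
    | one => exact one_pow 2
    | mul a b ha hb h1 h2 => rw [(hab a ha b hb).mul_pow, h1, h2, one_mul]
    | inv a _ h1 => rw [inv_pow, h1, inv_one]
  set F : Finset G := Finset.univ.filter fun x => x ∈ zpowers z ⊔ cl l with hF
  have hFc : F.card = 2 ^ (j + 1) := by rw [← hZc, Nat.card_eq_fintype_card, Fintype.card_subtype]
  rw [← hFc, Nat.card_eq_fintype_card, Fintype.card_subtype, ← Finset.card_union_of_disjoint
    (Finset.disjoint_left.2 fun x h h' => (mem_cand.1 h).2.2.2.1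
      (sup_le_sup_right (zpowers_le.2 hzC) _ (by simpa [hF] using h')))]
  refine Finset.card_le_card fun x hx => ?_
  simp only [Finset.mem_filter, Finset.mem_univ, true_and]
  rcases Finset.mem_union.1 hx with h | h
  · obtain ⟨h1, h2, h3, -, -⟩ := mem_cand.1 h
    exact ⟨mem_inf.2 ⟨h1, mem_centralizer_iff.2 fun p hp => (commute_cl h2 p hp).eq⟩, h3⟩
  · simp only [hF, Finset.mem_filter, Finset.mem_univ, true_and] at h
    obtain ⟨a, ha, p, hp, rfl⟩ := CfsgLib.Coprime.mem_sup_exists hnrm h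
    have haC := zpowers_le.2 hzC ha
    refine ⟨mem_inf.2 ⟨mul_mem (hCle haC) (hle hp), mem_centralizer_iff.2 fun r hr =>
      ((hcent r (hle hr) a haC).mul_right (hab r hr p hp)).eq⟩, ?_⟩
    obtain ⟨i, rfl⟩ := mem_zpowers_iff.1 ha
    rw [(hcent p (hle hp) _ haC).symm.mul_pow, hpow p hp, mul_one, ← zpow_natCast, ← zpow_mul, mul_comm,
      zpow_mul, zpow_natCast, ← hz, pow_orderOf_eq_one, one_zpow]

/-- Reversing the product. -/
theorem prod_reflect (c q t : ℕ) :
    ∏ i ∈ Finset.range t, (c * q ^ (t - 1 - i) + 1) = ∏ i ∈ Finset.range t, (c * q ^ i + 1) :=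
  Finset.prod_range_reflect (fun i => c * q ^ i + 1) t

/-- The product is small. -/
theorem prod_sq_le {q c r : ℕ} (hq : 2 ≤ q) (hcr : 2 * c ≤ r * (q - 1))
    (hbase : (c + 1) ^ 2 ≤ r ^ 2 * (r + 1) ^ (q - 2)) :
    ∀ t, 1 ≤ t → (∏ i ∈ Finset.range t, (c * q ^ i + 1)) ^ 2 ≤ r ^ 2 * (r + 1) ^ (q ^ t - 2) := by
  intro t ht
  induction t, ht using Nat.le_induction with
  | base => simpa using hbase
  | succ t ht ih =>
    obtain ⟨m, hm⟩ : 2 ∣ q ^ t * (q - 1) := by
      rcases Nat.even_or_odd q with he | ho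
      · exact Dvd.dvd.mul_right (even_iff_two_dvd.1 ((Nat.even_pow' (by omega)).2 he)) _
      · exact Dvd.dvd.mul_left (even_iff_two_dvd.1 (Nat.Odd.sub_odd ho odd_one)) _
    have hqt : 2 ≤ q ^ t := le_trans hq (Nat.le_self_pow (by omega) q)
    have hstep : c * q ^ t + 1 ≤ (r + 1) ^ m := by
      have h1 : 1 + m * r ≤ (r + 1) ^ m := by
        have hbern := one_add_mul_le_pow (a := (r : ℤ)) (by omega) m
        have hbern' : ((1 + m * r : ℕ) : ℤ) ≤ (((r + 1) ^ m : ℕ) : ℤ) := by
          push_cast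
          rw [add_comm (r : ℤ) 1]
          exact hbern
        exact_mod_cast hbern'
      have h2 : 2 * (c * q ^ t) ≤ 2 * (m * r) := by
        calc 2 * (c * q ^ t) = 2 * c * q ^ t := by ring
          _ ≤ r * (q - 1) * q ^ t := Nat.mul_le_mul_right _ hcr
          _ = q ^ t * (q - 1) * r := by ring
          _ = 2 * (m * r) := by rw [hm]; ring
      omega
    have hexp : q ^ (t + 1) - 2 = (q ^ t - 2) + m * 2 := by
      have : q ^ (t + 1) = q ^ t * (q - 1) + q ^ t := by
        rw [pow_succ, ← Nat.mul_succ]; congr 1; omega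
      omega
    rw [Finset.prod_range_succ, mul_pow, hexp, pow_add, ← mul_assoc, pow_mul]
    exact Nat.mul_le_mul ih (Nat.pow_le_pow_left hstep 2)

/-- The final inequality. -/
theorem index_bound {k r X P b : ℕ} (hr : 1 ≤ r) (hXr : r ≤ X - 1) (hb : 2 ≤ b)
    (hk : k * r ≤ P * (X - 1)) (hP : P ^ 2 ≤ r ^ 2 * (r + 1) ^ (b - 2)) : (k + 1) ^ 2 ≤ X ^ b := by
  rcases Nat.lt_or_ge P r with hPr | hPr
  · have h1 : k * r ≤ r * (X - 1) := hk.trans (Nat.mul_le_mul_right _ hPr.le)
    have h2 : k ≤ X - 1 := Nat.le_of_mul_le_mul_left (by rw [mul_comm]; exact h1) (by omega)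
    exact (Nat.pow_le_pow_left (show k + 1 ≤ X by omega) 2).trans (Nat.pow_le_pow_right (by omega) hb)
  · have h1 : (k + 1) * r ≤ P * X := by
      have hX : P * X = P * (X - 1) + P := by rw [← Nat.mul_succ]; congr 1; omega
      rw [hX, add_mul, one_mul]
      omega
    have h2 : r ^ 2 * (k + 1) ^ 2 ≤ r ^ 2 * X ^ b := by
      calc r ^ 2 * (k + 1) ^ 2 = ((k + 1) * r) ^ 2 := by ring
        _ ≤ (P * X) ^ 2 := Nat.pow_le_pow_left h1 2
        _ = P ^ 2 * X ^ 2 := by ring
        _ ≤ r ^ 2 * X ^ (b - 2) * X ^ 2 := Nat.mul_le_mul_right _ (hP.trans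
            (Nat.mul_le_mul_left _ (Nat.pow_le_pow_left (by omega) _)))
        _ = r ^ 2 * X ^ b := by rw [mul_assoc, ← pow_add, Nat.sub_add_cancel hb]
    exact Nat.le_of_mul_le_mul_left h2 (pow_pos (by omega) 2)

end CfsgLib.DerangeIndex.Count
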