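import Cfsg.Agent.Lib.Perm.DerangeIndex.Module
import Mathlib.FieldTheory.Finite.Basic

/-!
The case of a cyclic self-centralising normal abelian subgroup.
-/

set_option autoImplicit false
set_option linter.unusedSectionVars false

open Subgroup

namespace CfsgLib.DerangeIndex

variable {G : Type*} [Group G] [Finite G]

/-- A normal `q`-subgroup `Q` of `H ∩ D` with an element having fixed points and a cyclic maximal
normal abelian subgroup `C`, whose subgroup of order `q` is `⟨z⟩`. -/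
structure Loc (D V H : Subgroup G) (p q : ℕ) (Q C : Subgroup G) (z : G) : Prop where
  mod : Mod D V H p
  qprime : q.Prime
  big : Nat.card V < (D.index + 1) ^ 2
  Qle : Q ≤ H ⊓ D
  Qpg : IsPGroup q Q
  Qn : ∀ u ∈ H, ∀ x ∈ Q, u * x * u⁻¹ ∈ Q
  nonfpf : ∃ y ∈ Q, y ≠ 1 ∧ ∃ v ∈ V, v ≠ 1 ∧ y * v = v * y
  CQ : C ≤ Q
  Ccyc : ∃ c₀ ∈ C, C = zpowers c₀
  Cn : ∀ u ∈ H, ∀ x ∈ C, u * x * u⁻¹ ∈ C
  Cmax : ∀ A : Subgroup G, C ≤ A → A ≤ Q → (∀ x ∈ A, ∀ y ∈ A, x * y = y * x) →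
    (∀ u ∈ H, ∀ x ∈ A, u * x * u⁻¹ ∈ A) → A = C
  zC : z ∈ C
  zord : orderOf z = q
  zuniq : ∀ x ∈ C, x ^ q = 1 → x ∈ zpowers z
  Cfpf : ∀ x ∈ C, x ≠ 1 → ∀ v ∈ V, x * v = v * x → v = 1

theorem geom_not_dvd {q t : ℕ} (hq : q.Prime) (h1 : t % q = 1) (h2 : q ≠ 2 ∨ t % 4 = 1) :
    ¬ q ^ 2 ∣ ∑ i ∈ Finset.range q, t ^ i := by
  obtain ⟨j, hj⟩ : ∃ j, t = 1 + q * j := ⟨t / q, by have := Nat.div_add_mod t q; omega⟩
  rcases eq_or_ne q 2 with rfl | hne
  · rw [Finset.sum_range_succ, Finset.sum_range_one, pow_zero, pow_one]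
    omega
  intro hd
  rw [← ZMod.natCast_eq_zero_iff, Nat.cast_sum] at hd
  have hx2 : ((q * j : ℕ) : ZMod (q ^ 2)) * ((q * j : ℕ) : ZMod (q ^ 2)) = 0 := by
    rw [← Nat.cast_mul, ZMod.natCast_eq_zero_iff]
    exact ⟨j * j, by ring⟩
  have hpow : ∀ i : ℕ, ((t ^ i : ℕ) : ZMod (q ^ 2)) = 1 + (i : ZMod (q ^ 2)) * ((q * j : ℕ) : ZMod (q ^ 2)) := by
    intro i
    induction i with
    | zero => simp
    | succ i ih =>
      have ht : (t : ZMod (q ^ 2)) = 1 + ((q * j : ℕ) : ZMod (q ^ 2)) := by rw [hj, Nat.cast_add, Nat.cast_one]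
      rw [Nat.cast_pow] at ih ⊢
      rw [pow_succ (t : ZMod (q ^ 2)) i, ih, ht, Nat.cast_succ]
      linear_combination (i : ZMod (q ^ 2)) * hx2
  obtain ⟨m, hm⟩ : ∃ m, q - 1 = 2 * m := (hq.odd_of_ne_two hne).tsub_odd odd_one |>.two_dvd
  have hsum : ∑ i ∈ Finset.range q, i = q * m := by
    have h3 := Finset.sum_range_id_mul_two q
    rw [hm, show q * (2 * m) = q * m * 2 by ring] at h3
    omega
  rw [Finset.sum_congr rfl fun i _ => hpow i, Finset.sum_add_distrib, ← Finset.sum_mul,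
    ← Nat.cast_sum, hsum, ← Nat.cast_mul (q * m), Finset.sum_const, Finset.card_range, nsmul_one,
    (ZMod.natCast_eq_zero_iff (q * m * (q * j)) (q ^ 2)).2 ⟨m * j, by ring⟩, add_zero,
    ZMod.natCast_eq_zero_iff] at hd
  have := Nat.le_of_dvd hq.pos hd
  rw [pow_two] at this
  nlinarith [hq.two_le]

variable {D V H Q C : Subgroup G} {p q : ℕ} {z : G}

theorem Loc.ne_top_of_fixed (h : Loc D V H p q Q C z) :
    ∃ y ∈ Q, orderOf y = q ∧ y ∉ C ∧ ∃ v ∈ V, v ≠ 1 ∧ y * v = v * y := by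
  obtain ⟨y, hy, hy1, v, hv, hv1, hyv⟩ := h.nonfpf
  haveI := Fact.mk h.qprime
  obtain ⟨m, hm⟩ := h.Qpg.exists_card_eq
  obtain ⟨i, -, hi⟩ := (Nat.dvd_prime_pow h.qprime).1 (hm ▸ Subgroup.orderOf_dvd_natCard Q hy)
  have hi0 : i ≠ 0 := fun e => hy1 (orderOf_eq_one_iff.1 (by rw [hi, e, pow_zero]))
  have hd : q ^ (i - 1) ∣ orderOf y := hi ▸ pow_dvd_pow q (Nat.sub_le _ _)
  have hord : orderOf (y ^ q ^ (i - 1)) = q := by
    rw [orderOf_pow' _ (pow_ne_zero _ h.qprime.ne_zero), Nat.gcd_eq_right hd, hi,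
      Nat.pow_div (Nat.sub_le _ _) h.qprime.pos, show i - (i - 1) = 1 by omega, pow_one]
  refine ⟨_, pow_mem hy _, hord, fun hC => hv1 ?_, v, hv, hv1, ((Commute.pow_left hyv _).eq)⟩
  exact h.Cfpf _ hC (fun e => h.qprime.ne_one (by rw [← hord, e, orderOf_one])) v hv
    (Commute.pow_left hyv _).eq

theorem Loc.false_of_cyclic (h : Loc D V H p q Q C z)
    (hR : ∀ x ∈ Q, (∀ c ∈ C, x * c = c * x) → x ∈ C) : False := by
  classical
  haveI := Fact.mk h.qprime
  obtain ⟨y, hyQ, hyq, hyC, v, hv, hv1, hyv⟩ := h.ne_top_of_fixed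
  obtain ⟨c₀, hc₀, hC⟩ := h.Ccyc
  have hyq1 : y ^ q = 1 := hyq ▸ pow_orderOf_eq_one y
  have hzq : z ^ q = 1 := h.zord ▸ pow_orderOf_eq_one z
  have hQH : Q ≤ H := h.Qle.trans inf_le_left
  have hyH : y ∈ H := hQH hyQ
  obtain ⟨t, ht⟩ : ∃ t : ℕ, y * c₀ * y⁻¹ = c₀ ^ t := by
    have := h.Cn y hyH c₀ hc₀
    rw [hC, ← SetLike.mem_coe] at this
    obtain ⟨t, ht⟩ := (mem_powers_iff_mem_zpowers (x := c₀) (y := y * c₀ * y⁻¹)).2 this
    exact ⟨t, ht.symm⟩
  have htc : ∀ c ∈ C, y * c * y⁻¹ = c ^ t := by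
    intro c hc
    rw [hC] at hc
    obtain ⟨i, rfl⟩ := mem_zpowers_iff.1 hc
    rw [← conj_zpow, ht, ← zpow_natCast (c₀ ^ i) t, ← zpow_mul, mul_comm, zpow_mul, zpow_natCast]
  have hti : ∀ (i : ℕ), ∀ c ∈ C, y ^ i * c * (y ^ i)⁻¹ = c ^ t ^ i := by
    intro i
    induction i with
    | zero => intro c _; simp
    | succ i ih =>
      intro c hc
      rw [show y ^ (i + 1) * c * (y ^ (i + 1))⁻¹ = y * (y ^ i * c * (y ^ i)⁻¹) * y⁻¹ by
        rw [pow_succ']; group, ih c hc, htc _ (pow_mem hc _), ← pow_mul, ← pow_succ]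
  -- the elements conjugate to `y` lie in `C y`
  have hconj : ∀ u ∈ H, u * y * u⁻¹ * y⁻¹ ∈ C := by
    intro u hu
    have hy' : u * y * u⁻¹ ∈ Q := h.Qn u hu y hyQ
    refine hR _ (mul_mem hy' (inv_mem hyQ)) fun c hc => ?_
    have hd : u⁻¹ * (y⁻¹ * c * y) * u ∈ C := by
      simpa using h.Cn u⁻¹ (inv_mem hu) _ (show y⁻¹ * c * y ∈ C by
        simpa using h.Cn y⁻¹ (inv_mem hyH) c hc)
    have e1 := htc _ hd
    have hd' : y⁻¹ * c * y ∈ C := by simpa using h.Cn y⁻¹ (inv_mem hyH) c hc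
    have e2 := htc _ hd'
    rw [show y * (y⁻¹ * c * y) * y⁻¹ = c by group] at e2
    have e3 : (u⁻¹ * (y⁻¹ * c * y) * u) ^ t = u⁻¹ * c * u := by
      rw [show u⁻¹ * (y⁻¹ * c * y) * u = u⁻¹ * (y⁻¹ * c * y) * (u⁻¹)⁻¹ by group, conj_pow, ← e2]
      group
    rw [e3] at e1
    have e4 : (u * y * u⁻¹) * (y⁻¹ * c * y) * (u * y * u⁻¹)⁻¹ = c := by
      calc _ = u * (y * (u⁻¹ * (y⁻¹ * c * y) * u) * y⁻¹) * u⁻¹ := by group
        _ = u * (u⁻¹ * c * u) * u⁻¹ := by rw [e1]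
        _ = c := by group
    calc u * y * u⁻¹ * y⁻¹ * c = ((u * y * u⁻¹) * (y⁻¹ * c * y) * (u * y * u⁻¹)⁻¹) *
          (u * y * u⁻¹) * y⁻¹ := by group
      _ = c * (u * y * u⁻¹ * y⁻¹) := by rw [e4]; group
  have hcy : ∀ c ∈ C, ∀ n : ℕ, (c * y) ^ n = c ^ (∑ i ∈ Finset.range n, t ^ i) * y ^ n := by
    intro c hc n
    induction n with
    | zero => simp
    | succ n ih =>
      rw [pow_succ, ih, Finset.sum_range_succ, pow_add, ← hti n c hc, pow_succ y]
      group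
  -- `t` is `1` modulo `q`
  have hordc : q ∣ orderOf c₀ := by
    rw [← h.zord]
    obtain ⟨i, hi⟩ := mem_zpowers_iff.1 (hC ▸ h.zC)
    rw [← hi]
    exact orderOf_dvd_of_mem_zpowers (zpow_mem (mem_zpowers c₀) i)
  have htq : t ^ q ≡ 1 [MOD orderOf c₀] := by
    rw [← pow_eq_pow_iff_modEq, ← hti q c₀ hc₀, hyq1]
    simp
  have ht1 : t % q = 1 := by
    have h1 : (t ^ q) % q = 1 % q := htq.of_dvd hordc
    have h2 : ((t ^ q : ℕ) : ZMod q) = (t : ZMod q) := by rw [Nat.cast_pow, ZMod.pow_card]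
    rw [ZMod.natCast_eq_natCast_iff'] at h2
    rw [← h2, h1, Nat.mod_eq_of_lt h.qprime.one_lt]
  have hyz : y * z = z * y := by
    rw [← mul_inv_eq_iff_eq_mul, htc z h.zC]
    conv_lhs => rw [← Nat.div_add_mod t q, ht1, pow_add, pow_mul, hzq, one_pow, one_mul, pow_one]
  have hcz : ∀ x ∈ zpowers z, x ^ q = 1 := by
    intro x hx
    obtain ⟨i, rfl⟩ := mem_zpowers_iff.1 hx
    rw [← zpow_natCast, ← zpow_mul, mul_comm, zpow_mul, zpow_natCast, hzq, one_zpow]
  by_cases hgood : q ≠ 2 ∨ t % 4 = 1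
  · -- `⟨z, y⟩` is normal elementary abelian
    have hroot : ∀ c ∈ C, (c * y) ^ q = 1 → c ^ q = 1 := by
      intro c hc he
      rw [hcy c hc q, hyq1, mul_one] at he
      obtain ⟨m, hm⟩ := (h.Qpg.to_le h.CQ) ⟨c, hc⟩
      have hm' : c ^ q ^ m = 1 := congrArg Subtype.val hm
      obtain ⟨a, -, ha⟩ := (Nat.dvd_prime_pow h.qprime).1 (orderOf_dvd_of_pow_eq_one hm')
      have h1 := orderOf_dvd_of_pow_eq_one he
      rw [ha] at h1
      refine orderOf_dvd_iff_pow_eq_one.1 ?_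
      rw [ha]
      have : a ≤ 1 := by
        by_contra hlt
        exact geom_not_dvd h.qprime ht1 hgood ((pow_dvd_pow q (by omega)).trans h1)
      calc q ^ a ∣ q ^ 1 := pow_dvd_pow q this
        _ = q := pow_one q
    set A := zpowers z ⊔ zpowers y with hA
    have hcomm : ∀ x ∈ zpowers z, ∀ x' ∈ zpowers y, Commute x x' := by
      intro x hx x' hx'
      obtain ⟨i, rfl⟩ := mem_zpowers_iff.1 hx
      obtain ⟨j, rfl⟩ := mem_zpowers_iff.1 hx'
      exact (Commute.zpow_zpow (hyz.symm : Commute z y) i j)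
    have hsup : ∀ x ∈ A, ∃ a ∈ zpowers z, ∃ b ∈ zpowers y, x = a * b := by
      intro x hx
      obtain ⟨a, ha, b, hb, e⟩ := CfsgLib.Coprime.mem_sup_exists (N := zpowers z) (H := zpowers y)
        (fun b hb => mem_nrm fun a ha => by
          rw [(hcomm a ha b hb).symm.eq, mul_inv_cancel_right]; exact ha) hx
      exact ⟨a, ha, b, hb, e.symm⟩
    have hAe : Cfsg.IsElementaryAbelian q A := by
      refine ⟨⟨⟨fun x x' => Subtype.ext ?_⟩⟩, fun x hx => ?_⟩
      · obtain ⟨a, ha, b, hb, e⟩ := hsup x x.2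
        obtain ⟨a', ha', b', hb', e'⟩ := hsup x' x'.2
        obtain ⟨i, rfl⟩ := mem_zpowers_iff.1 ha
        obtain ⟨i', rfl⟩ := mem_zpowers_iff.1 ha'
        show (x : G) * x' = x' * x
        rw [e, e']
        refine Commute.mul_left (Commute.mul_right (Commute.zpow_zpow_self z i i')
          (hcomm _ (zpow_mem (mem_zpowers z) i) _ hb')) (Commute.mul_right
            (hcomm _ (zpow_mem (mem_zpowers z) i') _ hb).symm ?_)
        obtain ⟨j, rfl⟩ := mem_zpowers_iff.1 hb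
        obtain ⟨j', rfl⟩ := mem_zpowers_iff.1 hb'
        exact Commute.zpow_zpow_self y j j'
      · obtain ⟨a, ha, b, hb, rfl⟩ := hsup x hx
        obtain ⟨j, rfl⟩ := mem_zpowers_iff.1 hb
        rw [(hcomm a ha _ hb).mul_pow, hcz a ha, ← zpow_natCast, ← zpow_mul, mul_comm, zpow_mul,
          zpow_natCast, hyq1, one_zpow, one_mul]
    have hAle : A ≤ H ⊓ D :=
      sup_le (zpowers_le.2 (h.Qle (h.CQ h.zC))) (zpowers_le.2 (h.Qle hyQ))
    have hA2 : q ^ 2 ≤ Nat.card A := by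
      have hinf : zpowers z ⊓ zpowers y = ⊥ := by
        refine (eq_bot_iff_forall _).2 fun x hx => ?_
        by_contra hx1
        obtain ⟨hxz, hxy⟩ := mem_inf.1 hx
        have hox : orderOf x = q :=
          orderOf_eq_prime (hcz x hxz) hx1
        have heq : zpowers x = zpowers y := eq_of_le_of_card_ge (zpowers_le.2 hxy)
          (by rw [Nat.card_zpowers, Nat.card_zpowers, hyq, hox])
        exact hyC (by
          have : y ∈ zpowers x := heq ▸ mem_zpowers y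
          exact (zpowers_le.2 ((zpowers_le.2 h.zC) hxz)) this)
      rw [hA, CfsgLib.CFun.ZLen.card_sup_eq (fun b hb => mem_nrm fun a ha => by
          rw [(hcomm a ha b hb).symm.eq, mul_inv_cancel_right]; exact ha) hinf,
        Nat.card_zpowers, Nat.card_zpowers, hyq, h.zord, pow_two]
    have hAn : ∀ u ∈ H, ∀ x ∈ A, u * x * u⁻¹ ∈ A := by
      intro u hu x hx
      obtain ⟨a, ha, b, hb, rfl⟩ := hsup x hx
      obtain ⟨j, rfl⟩ := mem_zpowers_iff.1 hb
      have ha' : u * a * u⁻¹ ∈ zpowers z := h.zuniq _ (h.Cn u hu a (zpowers_le.2 h.zC ha))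
        (by rw [conj_pow, hcz a ha, mul_one, mul_inv_cancel])
      have hd : u * y * u⁻¹ * y⁻¹ ∈ zpowers z := h.zuniq _ (hconj u hu) (hroot _ (hconj u hu) (by
        rw [inv_mul_cancel_right, conj_pow, hyq1, mul_one, mul_inv_cancel]))
      rw [show u * (a * y ^ j) * u⁻¹ = (u * a * u⁻¹) * (u * y ^ j * u⁻¹) by group, ← conj_zpow]
      refine mul_mem (mem_sup_left ha') (zpow_mem ?_ j)
      rw [show u * y * u⁻¹ = (u * y * u⁻¹ * y⁻¹) * y by group]
      exact mul_mem (mem_sup_left hd) (mem_sup_right (mem_zpowers y))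
    exact absurd (h.mod.of_normal_elementary hAle hAe hA2 hAn) (not_le.2 h.big)
  -- the dihedral case
  push Not at hgood
  obtain ⟨rfl, ht4⟩ := hgood
  have htodd : t % 2 = 1 := ht1
  -- `|C| ≥ 4`
  have h4 : 4 ∣ orderOf c₀ := by
    obtain ⟨m, hm⟩ := (h.Qpg.to_le h.CQ) ⟨c₀, hc₀⟩
    obtain ⟨a, -, ha⟩ := (Nat.dvd_prime_pow Nat.prime_two).1
      (orderOf_dvd_of_pow_eq_one (congrArg Subtype.val hm : c₀ ^ 2 ^ m = 1))
    rw [ha]
    rcases Nat.lt_or_ge a 2 with hlt | hge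
    · exfalso
      refine hyC (hR y hyQ fun c hc => ?_)
      rw [← mul_inv_eq_iff_eq_mul, htc c hc]
      have hc2 : c ^ 2 = 1 := by
        rw [hC] at hc
        obtain ⟨i, rfl⟩ := mem_zpowers_iff.1 hc
        have h2 : c₀ ^ 2 = 1 := orderOf_dvd_iff_pow_eq_one.1 (ha ▸ by
          calc 2 ^ a ∣ 2 ^ 1 := pow_dvd_pow 2 (by omega)
            _ = 2 := pow_one 2)
        rw [← zpow_natCast, ← zpow_mul, mul_comm, zpow_mul, zpow_natCast, h2, one_zpow]
      rw [← Nat.div_add_mod t 2, htodd, pow_add, pow_mul, hc2, one_pow, one_mul, pow_one]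
    · calc 4 = 2 ^ 2 := by norm_num
        _ ∣ 2 ^ a := pow_dvd_pow 2 hge
  obtain ⟨w, hw⟩ : ∃ w, t = 4 * w + 3 := ⟨t / 4, by omega⟩
  -- squares of `C` are commutators with `y`
  have hsq : ∀ c ∈ C, ∃ e ∈ C, c * c = e * y * e⁻¹ * y⁻¹ := by
    intro c hc
    obtain ⟨b, hb⟩ := exists_pow_eq_self_of_coprime (x := c) (n := 2 * w + 1) (by
      obtain ⟨m, hm⟩ := (h.Qpg.to_le h.CQ) ⟨c, hc⟩
      exact (Nat.Coprime.pow_right m (Nat.coprime_two_right.2 ⟨w, rfl⟩)).coprime_dvd_right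
        (orderOf_dvd_of_pow_eq_one (congrArg Subtype.val hm : c ^ 2 ^ m = 1)))
    refine ⟨(c ^ b)⁻¹, inv_mem (pow_mem hc b), ?_⟩
    rw [inv_inv, show (c ^ b)⁻¹ * y * c ^ b * y⁻¹ = (c ^ b)⁻¹ * (y * c ^ b * y⁻¹) by group,
      htc _ (pow_mem hc b), eq_inv_mul_iff_mul_eq]
    rw [← pow_mul] at hb
    rw [← pow_mul, hw, show b * (4 * w + 3) = b + (2 * w + 1) * b + (2 * w + 1) * b by ring,
      pow_add, pow_add, hb, mul_assoc]
  set A₁ := centralizer ({y} : Set G) with hA₁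
  set H₁ := H ⊓ A₁
  set J := C ⊔ H₁ with hJ
  have hJH : J ≤ H := sup_le (h.CQ.trans hQH) inf_le_left
  have hJdec : ∀ u ∈ J, ∃ u₁ ∈ H₁, u₁⁻¹ * u ∈ D := by
    intro u hu
    obtain ⟨c, hc, u₁, hu₁, rfl⟩ := CfsgLib.Coprime.mem_sup_exists
      (fun u₁ hu₁ => mem_nrm fun c hc => h.Cn u₁ (mem_inf.1 hu₁).1 c hc) hu
    refine ⟨u₁, hu₁, ?_⟩
    rw [show u₁⁻¹ * (c * u₁) = u₁⁻¹ * c * (u₁⁻¹)⁻¹ by group]
    exact h.mod.normal.conj_mem c ((h.Qle (h.CQ hc)).2) _
  have hJidx : J.relIndex H ≤ 2 := by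
    have key : ∀ x : H, ∃ j : ℕ, (x : G) * y * (x : G)⁻¹ * y⁻¹ = c₀ ^ j := fun x => by
      have := hconj x x.2
      rw [hC, ← SetLike.mem_coe] at this
      obtain ⟨j, hj⟩ := (mem_powers_iff_mem_zpowers (x := c₀)).2 this
      exact ⟨j, hj.symm⟩
    choose par hpar using key
    let f : H ⧸ J.subgroupOf H → Fin 2 := fun c => ⟨par c.out % 2, Nat.mod_lt _ two_pos⟩
    have hf : Function.Injective f := by
      intro a b hab
      have he : par a.out % 2 = par b.out % 2 := congrArg Fin.val hab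
      rw [← a.out_eq, ← b.out_eq]
      refine QuotientGroup.eq.2 (mem_subgroupOf.2 ?_)
      set x := a.out
      set x' := b.out
      -- the difference is the square of an element of `C`
      have hev : ∃ c ∈ C, c₀ ^ par x' = c * c * c₀ ^ par x := by
        rcases Nat.le_total (par x) (par x') with hle | hle
        · refine ⟨c₀ ^ ((par x' - par x) / 2), pow_mem hc₀ _, ?_⟩
          rw [← pow_add, ← pow_add]
          congr 1
          omega
        · refine ⟨(c₀ ^ ((par x - par x') / 2))⁻¹, inv_mem (pow_mem hc₀ _), ?_⟩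
          rw [← mul_inv_rev, eq_inv_mul_iff_mul_eq, ← pow_add, ← pow_add]
          congr 1
          omega
      obtain ⟨c, hc, hcc⟩ := hev
      obtain ⟨e, he, hee⟩ := hsq c hc
      rw [hee] at hcc
      have hex : e * ((x : G) * y * (x : G)⁻¹) * e⁻¹ = (x' : G) * y * (x' : G)⁻¹ := by
        have h1 : e * c₀ ^ par x = c₀ ^ par x * e := by
          rw [hC] at he
          obtain ⟨i, rfl⟩ := mem_zpowers_iff.1 he
          exact ((Commute.refl c₀).zpow_left i).pow_right _ |>.eq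
        have h2 : (x : G) * y * (x : G)⁻¹ = c₀ ^ par x * y := by
          rw [← hpar x, inv_mul_cancel_right]
        have h3 : (x' : G) * y * (x' : G)⁻¹ = c₀ ^ par x' * y := by
          rw [← hpar x', inv_mul_cancel_right]
        rw [h2, h3, hcc]
        have h4 : e * y * e⁻¹ * y⁻¹ * c₀ ^ par x = c₀ ^ par x * (e * y * e⁻¹ * y⁻¹) := by
          have hm : e * y * e⁻¹ * y⁻¹ ∈ C := hee ▸ mul_mem hc hc
          rw [hC] at hm
          obtain ⟨i, hi⟩ := mem_zpowers_iff.1 hm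
          rw [← hi]
          exact ((Commute.refl c₀).zpow_left i).pow_right _ |>.eq
        rw [h4]
        calc e * (c₀ ^ par x * y) * e⁻¹ = (e * c₀ ^ par x) * y * e⁻¹ := by group
          _ = _ := by rw [h1]; group
      have hu : (x : G)⁻¹ * (e⁻¹ * x') ∈ H₁ := mem_inf.2
        ⟨mul_mem (inv_mem x.2) (mul_mem (inv_mem (hQH (h.CQ he))) x'.2),
          mem_centralizer_singleton_iff.2 (by
            calc (x : G)⁻¹ * (e⁻¹ * x') * y = (x : G)⁻¹ * e⁻¹ * ((x' : G) * y * (x' : G)⁻¹) * x' := by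
                  group
              _ = _ := by rw [← hex]; group)⟩
      rw [coe_mul, coe_inv, show (x : G)⁻¹ * x' = ((x : G)⁻¹ * e * x) * ((x : G)⁻¹ * (e⁻¹ * x')) by
        group]
      exact mul_mem (mem_sup_left (by simpa using h.Cn (x : G)⁻¹ (inv_mem x.2) e he)) (mem_sup_right hu)
    have := Nat.card_le_card_of_injective f hf
    rwa [Nat.card_fin, ← index_eq_card] at this
  -- the orbit bound
  have hU : zpowers y ≤ H ⊓ D := zpowers_le.2 (h.Qle hyQ)
  have hvU : v ∈ fix V (zpowers y) := mem_fix.2 ⟨hv, fun b hb => by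
    obtain ⟨i, rfl⟩ := mem_zpowers_iff.1 hb
    exact (Commute.zpow_left (hyv : Commute y v) i).eq⟩
  have hbound := h.mod.orbit_bound (U := fix V (zpowers y)) (H₁ := H₁) (W := zpowers z) inf_le_left
    inf_le_left (fun u hu x hx => conj_mem_fix (h.mod.nrm (mem_inf.1 hu).1) (fun b hb => by
      have hc : Commute u y := mem_centralizer_singleton_iff.1 (mem_inf.1 hu).2
      obtain ⟨i, rfl⟩ := mem_zpowers_iff.1 hb
      rw [(hc.zpow_right i).inv_left.eq, inv_mul_cancel_right]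
      exact zpow_mem (mem_zpowers y) i) hx)
    (zpowers_le.2 (mem_inf.2 ⟨mem_inf.2 ⟨hQH (h.CQ h.zC),
      mem_centralizer_singleton_iff.2 hyz.symm⟩, (h.Qle (h.CQ h.zC)).2⟩)) hvU hv1
  have hrel : (centralizer ({v} : Set G)).relIndex (zpowers z) = 2 := by
    have h1 : centralizer ({v} : Set G) ⊓ zpowers z = ⊥ := (eq_bot_iff_forall _).2 fun x hx => by
      by_contra hx1
      exact hv1 (h.Cfpf x (zpowers_le.2 h.zC (mem_inf.1 hx).2) hx1 v hv
        (mem_centralizer_singleton_iff.1 (mem_inf.1 hx).1))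
    rw [← inf_relIndex_right, h1, relIndex_bot_left, Nat.card_zpowers, h.zord]
  rw [hrel] at hbound
  have hidx := h.mod.index_le (H₁ := H₁) inf_le_left hJH hJdec
  -- two independent translates
  obtain ⟨c, hc, hcz2⟩ : ∃ c ∈ C, c * c = z := by
    obtain ⟨r, hr⟩ := h4
    have hr0 : r ≠ 0 := fun e => (orderOf_pos c₀).ne' (by rw [hr, e, mul_zero])
    refine ⟨c₀ ^ r, pow_mem hc₀ r, ?_⟩
    have h2 : orderOf (c₀ ^ r * c₀ ^ r) = 2 := by
      rw [← pow_add, orderOf_pow' _ (by omega), hr,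
        Nat.gcd_eq_right ⟨2, by ring⟩, show 4 * r = 2 * (r + r) by ring, Nat.mul_div_cancel _ (by omega)]
    have h3 := h.zuniq _ (mul_mem (pow_mem hc₀ r) (pow_mem hc₀ r)) (h2 ▸ pow_orderOf_eq_one _)
    obtain ⟨i, hi⟩ := mem_zpowers_iff.1 h3
    rw [← hi]
    have hi' : c₀ ^ r * c₀ ^ r ≠ 1 := fun e => by rw [e, orderOf_one] at h2; omega
    rcases Int.emod_two_eq_zero_or_one i with hm | hm <;>
      obtain ⟨j, hj⟩ : ∃ j, i = 2 * j + i % 2 := ⟨i / 2, by omega⟩ <;> rw [hm] at hj <;>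
      rw [hj, zpow_add, zpow_mul, show z ^ (2 : ℤ) = 1 from hzq ▸ zpow_natCast z 2, one_zpow, one_mul] at hi ⊢
    · exact absurd hi.symm (by simpa using hi')
    · rw [zpow_one]
  obtain ⟨e, he, hee⟩ := hsq c hc
  rw [hcz2] at hee
  set B₁ := zpowers y with hB₁
  set B₂ := B₁.map (MulAut.conj e).toMonoidHom with hB₂
  have hB₂y : B₂ = zpowers (z * y) := by
    rw [hB₂, hB₁, MonoidHom.map_zpowers]
    congr 1
    simp only [MulEquiv.coe_toMonoidHom, MulAut.conj_apply]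
    rw [hee, inv_mul_cancel_right]
  have hne : B₁ ≠ B₂ := by
    intro e'
    have hmem : z * y ∈ zpowers y := by
      have := mem_zpowers (z * y)
      rw [← hB₂y, ← e'] at this
      exact this
    have hz : z ∈ zpowers y := by
      simpa using mul_mem hmem (inv_mem (mem_zpowers y))
    have := eq_of_le_of_card_ge (zpowers_le.2 hz) (by rw [Nat.card_zpowers, Nat.card_zpowers, hyq, h.zord])
    exact hyC (zpowers_le.2 h.zC (this ▸ mem_zpowers y))
  have hB₂le : B₂ ≤ H ⊓ D := by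
    rw [hB₂y]
    exact zpowers_le.2 (mul_mem (h.Qle (h.CQ h.zC)) (h.Qle hyQ))
  have hpow := h.mod.pow_card_le (X := Nat.card (fix V B₁)) {B₁, B₂} (by
      intro B hB
      rcases Finset.mem_insert.1 hB with e' | e'
      · exact e' ▸ hU
      · exact (Finset.mem_singleton.1 e') ▸ hB₂le) (by
      intro B hB
      rcases Finset.mem_insert.1 hB with e' | e'
      · rw [e']
      · rw [Finset.mem_singleton.1 e', hB₂, ← map_fix (h.mod.nrm (hQH (h.CQ he))),
          card_map_of_injective (MulAut.conj e).injective]) (by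
      intro B hB B' hB' b hb b' hb'
      have hgen : ∀ B'' ∈ ({B₁, B₂} : Finset (Subgroup G)), ∀ x ∈ B'', ∃ i j : ℤ, x = z ^ i * y ^ j := by
        intro B'' hB'' x hx
        rcases Finset.mem_insert.1 hB'' with e' | e'
        · rw [e'] at hx
          obtain ⟨j, rfl⟩ := mem_zpowers_iff.1 hx
          exact ⟨0, j, by simp⟩
        · rw [Finset.mem_singleton.1 e', hB₂y] at hx
          obtain ⟨j, rfl⟩ := mem_zpowers_iff.1 hx
          exact ⟨j, j, Commute.mul_zpow hyz.symm j⟩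
      obtain ⟨i, j, rfl⟩ := hgen B hB b hb
      obtain ⟨i', j', rfl⟩ := hgen B' hB' b' hb'
      exact (Commute.mul_left
        (Commute.mul_right (Commute.zpow_zpow_self z i i') (Commute.zpow_zpow hyz.symm i j'))
        (Commute.mul_right (Commute.zpow_zpow hyz j i') (Commute.zpow_zpow_self y j j'))).eq) (by
      intro B hB B' hB' hne'
      refine (eq_bot_iff_forall _).2 fun x hx => ?_
      have key : ∀ {x : G}, x ∈ fix V B₁ → x ∈ fix V B₂ → x = 1 := by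
        intro x h₁ h₂
        have hx1 := (mem_fix.1 h₁).2 y (mem_zpowers y)
        have hx2 := (mem_fix.1 h₂).2 (z * y) (hB₂y ▸ mem_zpowers (z * y))
        refine h.Cfpf z h.zC (fun e' => by
          have := h.zord; rw [e', orderOf_one] at this; omega) x (mem_fix.1 h₁).1 ?_
        have h3 : Commute (z * y * y⁻¹) x := Commute.mul_left hx2 (Commute.inv_left hx1)
        rwa [mul_inv_cancel_right] at h3
      obtain ⟨hx₁, hx₂⟩ := mem_inf.1 hx
      rcases Finset.mem_insert.1 hB with e₁ | e₁ <;> rcases Finset.mem_insert.1 hB' with e₂ | e₂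
      · exact absurd (e₁.trans e₂.symm) hne'
      · exact key (e₁ ▸ hx₁) ((Finset.mem_singleton.1 e₂) ▸ hx₂)
      · exact key (e₂ ▸ hx₂) ((Finset.mem_singleton.1 e₁) ▸ hx₁)
      · exact absurd ((Finset.mem_singleton.1 e₁).trans (Finset.mem_singleton.1 e₂).symm) hne')
  rw [Finset.card_pair hne] at hpow
  refine absurd (le_trans (Nat.pow_le_pow_left (show D.index + 1 ≤ Nat.card (fix V B₁) from ?_) 2) hpow)
    (not_le.2 h.big)
  have h1 : D.index ≤ 2 * D.relIndex H₁ := hidx.trans (Nat.mul_le_mul_right _ hJidx)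
  have h2 : 0 < Nat.card (fix V B₁) := Nat.card_pos
  omega

end CfsgLib.DerangeIndex
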