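import Mathlib.GroupTheory.FiniteAbelian.Duality
import Mathlib.GroupTheory.Abelianization.Finite
import Mathlib.GroupTheory.SpecificGroups.Cyclic
import Mathlib.RingTheory.RootsOfUnity.Complex
import Mathlib.RingTheory.RootsOfUnity.AlgebraicallyClosed
import Mathlib.Analysis.Complex.Polynomial.Basic

/-!
Small tools: homomorphisms into a cyclic group, short generating families, powers of a product.
-/

set_option autoImplicit false

open Subgroup

namespace CfsgLib.DerangeIndex

/-- A finite group has at most as many homomorphisms into a cyclic group as elements. -/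
theorem card_hom_le (Γ M : Type*) [Group Γ] [Finite Γ] [Group M] [Finite M] [IsCyclic M] :
    Nat.card (Γ →* M) ≤ Nat.card Γ := by
  classical
  haveI : NeZero (Nat.card M) := ⟨Nat.card_pos.ne'⟩
  have hc : Nat.card (rootsOfUnity (Nat.card M) ℂ) = Nat.card M :=
    HasEnoughRootsOfUnity.natCard_rootsOfUnity ℂ _
  let e := mulEquivOfCyclicCardEq hc.symm
  let f : (Γ →* M) → (Abelianization Γ →* ℂˣ) := fun φ =>
    Abelianization.lift ((rootsOfUnity (Nat.card M) ℂ).subtype.comp (e.toMonoidHom.comp φ))
  have hf : Function.Injective f := by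
    intro φ ψ h
    ext x
    have h1 := DFunLike.congr_fun h (Abelianization.of x)
    simp only [f, Abelianization.lift_apply_of, MonoidHom.comp_apply] at h1
    exact e.injective (Subtype.ext h1)
  have h2 := CommGroup.card_monoidHom_of_hasEnoughRootsOfUnity (Abelianization Γ) ℂ
  haveI : Finite (Abelianization Γ →* ℂˣ) :=
    Nat.finite_of_card_ne_zero (by rw [h2]; exact Nat.card_pos.ne')
  refine (Nat.card_le_card_of_injective f hf).trans (h2.le.trans ?_)
  exact Nat.card_le_card_of_surjective Abelianization.of QuotientGroup.mk_surjective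

/-- A group of order less than `2 ^ (L + 1)` is generated by `L` elements. -/
theorem exists_gen {B : Type*} [Group B] [Finite B] {L : ℕ} (hB : Nat.card B < 2 ^ (L + 1)) :
    ∃ g : Fin L → B, closure (Set.range g) = ⊤ := by
  have key : ∀ M, ∃ g : Fin M → B, closure (Set.range g) = ⊤ ∨
      2 ^ M ≤ Nat.card (closure (Set.range g)) := by
    intro M
    induction M with
    | zero => exact ⟨Fin.elim0, Or.inr Nat.card_pos⟩
    | succ M ih =>
      obtain ⟨g, hg⟩ := ih
      rcases eq_or_ne (closure (Set.range g)) ⊤ with htop | hne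
      · refine ⟨Fin.snoc g 1, Or.inl (eq_top_iff.2 (htop ▸ closure_mono ?_))⟩
        rintro _ ⟨i, rfl⟩
        exact ⟨Fin.castSucc i, by simp⟩
      · obtain ⟨x, -, hx⟩ := SetLike.exists_of_lt (lt_top_iff_ne_top.2 hne)
        have h1 : 2 ^ M ≤ Nat.card (closure (Set.range g)) := hg.resolve_left hne
        refine ⟨Fin.snoc g x, Or.inr ?_⟩
        have hle : closure (Set.range g) ≤ closure (Set.range (Fin.snoc g x : Fin (M + 1) → B)) :=
          closure_mono (by rintro _ ⟨i, rfl⟩; exact ⟨Fin.castSucc i, by simp⟩)
        have hx' : x ∈ closure (Set.range (Fin.snoc g x : Fin (M + 1) → B)) :=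
          subset_closure ⟨Fin.last M, by simp⟩
        obtain ⟨m, hm⟩ := card_dvd_of_le hle
        have hm2 : 2 ≤ m := by
          by_contra hlt
          have hpos : 0 < Nat.card (closure (Set.range (Fin.snoc g x : Fin (M + 1) → B))) :=
            Nat.card_pos
          rcases Nat.le_one_iff_eq_zero_or_eq_one.1 (Nat.le_of_lt_succ (not_le.1 hlt)) with rfl | rfl
          · rw [mul_zero] at hm; omega
          · exact hx ((eq_of_le_of_card_ge hle (by rw [hm, mul_one])).ge hx')
        rw [hm, pow_succ]
        exact Nat.mul_le_mul h1 hm2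
  obtain ⟨g, hg⟩ := key L
  refine ⟨g, hg.elim id fun h1 => ?_⟩
  obtain ⟨m, hm⟩ := (closure (Set.range g)).card_subgroup_dvd_card
  rcases Nat.lt_or_ge m 2 with hlt | hge
  · have hpos : 0 < Nat.card B := Nat.card_pos
    rcases Nat.le_one_iff_eq_zero_or_eq_one.1 (Nat.le_of_lt_succ hlt) with rfl | rfl
    · rw [mul_zero] at hm; omega
    · exact eq_top_of_card_eq _ (by rw [hm, mul_one])
  · have := Nat.mul_le_mul h1 hge
    rw [← hm, ← pow_succ] at this
    omega

/-- Powers of a product of two elements whose commutator commutes with both. -/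
theorem mul_pow_of_comm {G : Type*} [Group G] {x y c : G} (hyx : y * x = x * c * y)
    (hcx : Commute c x) (hcy : Commute c y) (n : ℕ) :
    (x * y) ^ n = x ^ n * c ^ n.choose 2 * y ^ n := by
  have hyn : ∀ m : ℕ, y ^ m * x = x * c ^ m * y ^ m := by
    intro m
    induction m with
    | zero => simp
    | succ m ih =>
      calc y ^ (m + 1) * x = y ^ m * (y * x) := by rw [pow_succ, mul_assoc]
        _ = y ^ m * x * c * y := by rw [hyx]; simp only [mul_assoc]
        _ = x * c ^ m * (y ^ m * c) * y := by rw [ih]; simp only [mul_assoc]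
        _ = x * c ^ (m + 1) * y ^ (m + 1) := by
          rw [((hcy.pow_right m).symm).eq, pow_succ, pow_succ]; simp only [mul_assoc]
  induction n with
  | zero => simp
  | succ n ih =>
    calc (x * y) ^ (n + 1) = x ^ n * c ^ n.choose 2 * (y ^ n * x) * y := by
          rw [pow_succ, ih]; simp only [mul_assoc]
      _ = x ^ n * (c ^ n.choose 2 * x) * c ^ n * y ^ n * y := by rw [hyn]; simp only [mul_assoc]
      _ = x ^ (n + 1) * (c ^ n.choose 2 * c ^ n) * y ^ (n + 1) := by
          rw [(hcx.pow_left _).eq, pow_succ, pow_succ]; simp only [mul_assoc]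
      _ = x ^ (n + 1) * c ^ (n + 1).choose 2 * y ^ (n + 1) := by
          rw [← pow_add, show (n + 1).choose 2 = n + n.choose 2 by
            rw [Nat.choose_succ_succ' n 1, Nat.choose_one_right], Nat.add_comm (n.choose 2) n]

end CfsgLib.DerangeIndex
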