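import Cfsg.Agent.Lib.Perm.DerangeIndex.Cyclic
import Cfsg.Agent.Lib.Perm.DerangeIndex.HomCount
import Cfsg.Agent.Lib.Coprime.Solvable

/-!
The section above a cyclic maximal normal abelian subgroup when its centraliser in `Q` is larger.
-/

set_option autoImplicit false
set_option linter.unusedSectionVars false

open Subgroup

namespace CfsgLib.DerangeIndex

variable {G : Type*} [Group G] [Finite G]

/-- `E` is a normal subgroup of class two with centre `C` and elementary abelian central quotient. -/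
structure Ext (H Q C : Subgroup G) (q : ℕ) (z : G) (E : Subgroup G) : Prop where
  Cle : C ≤ E
  le : E ≤ Q
  cent : ∀ x ∈ E, ∀ c ∈ C, Commute x c
  pow : ∀ x ∈ E, x ^ q ∈ C
  com : ∀ x ∈ E, ∀ y ∈ E, x * y * x⁻¹ * y⁻¹ ∈ zpowers z
  norm : ∀ u ∈ H, ∀ x ∈ E, u * x * u⁻¹ ∈ E
  center : ∀ x ∈ E, (∀ y ∈ E, Commute x y) → x ∈ C
  nontriv : ¬ E ≤ C
  sub : ∀ y ∈ Q, (∀ c ∈ C, y * c = c * y) → ∀ x ∈ E, x * y * x⁻¹ * y⁻¹ ∈ C
  trap : ∀ N : Subgroup G, N ≤ Q → (∀ x ∈ N, ∀ c ∈ C, x * c = c * x) → C ≤ N →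
    (∀ u ∈ H, ∀ x ∈ N, u * x * u⁻¹ ∈ N) → ¬ N ≤ C → ¬ N ⊓ E ≤ C

variable {D V H Q C : Subgroup G} {p q : ℕ} {z : G}

theorem Loc.exists_ext (h : Loc D V H p q Q C z)
    (hR : ∃ x ∈ Q, (∀ c ∈ C, x * c = c * x) ∧ x ∉ C) : ∃ E : Subgroup G, Ext H Q C q z E := by
  classical
  haveI := Fact.mk h.qprime
  have hQH : Q ≤ H := h.Qle.trans inf_le_left
  obtain ⟨c₀, hc₀, hC⟩ := h.Ccyc
  have hCC : ∀ a ∈ C, ∀ b ∈ C, Commute a b := fun a ha b hb => by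
    rw [hC] at ha hb
    obtain ⟨i, rfl⟩ := mem_zpowers_iff.1 ha
    obtain ⟨j, rfl⟩ := mem_zpowers_iff.1 hb
    exact Commute.zpow_zpow_self c₀ i j
  set R := Q ⊓ centralizer (C : Set G) with hRdef
  have hRc : ∀ r ∈ R, ∀ c ∈ C, Commute r c := fun r hr c hc =>
    (mem_centralizer_iff.1 hr.2 c hc).symm
  have hRn : ∀ u ∈ H, ∀ r ∈ R, u * r * u⁻¹ ∈ R := fun u hu r hr => mem_inf.2
    ⟨h.Qn u hu r hr.1, mem_centralizer_iff.2 fun c hc => by
      have h1 : u⁻¹ * c * u ∈ C := by simpa using h.Cn u⁻¹ (inv_mem hu) c hc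
      calc c * (u * r * u⁻¹) = u * ((u⁻¹ * c * u) * r) * u⁻¹ := by group
        _ = u * (r * (u⁻¹ * c * u)) * u⁻¹ := by rw [(hRc r hr _ h1).eq]
        _ = u * r * u⁻¹ * c := by group⟩
  have hCR : C ≤ R := fun c hc => mem_inf.2
    ⟨h.CQ hc, mem_centralizer_iff.2 fun d hd => hCC d hd c hc⟩
  have hinv : ∀ x ∈ R, (∀ r ∈ R, x * r * x⁻¹ * r⁻¹ ∈ C) → ∀ r ∈ R,
      x⁻¹ * r * x⁻¹⁻¹ * r⁻¹ ∈ C := fun x hx hxC r hr => by
    have h1 : x⁻¹ * r * x⁻¹⁻¹ * r⁻¹ = x⁻¹ * (x * r * x⁻¹ * r⁻¹)⁻¹ * x := by group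
    have h2 := (hRc x hx _ (inv_mem (hxC r hr))).eq
    rw [h1, mul_assoc, ← h2, ← mul_assoc, inv_mul_cancel, one_mul]
    exact inv_mem (hxC r hr)
  let E : Subgroup G :=
    { carrier := {x | x ∈ R ∧ x ^ q ∈ C ∧ ∀ r ∈ R, x * r * x⁻¹ * r⁻¹ ∈ C}
      one_mem' := ⟨one_mem R, by simp, fun r _ => by simp⟩
      mul_mem' := by
        rintro x y ⟨hxR, hxq, hxC⟩ ⟨hyR, hyq, hyC⟩
        refine ⟨mul_mem hxR hyR, ?_, fun r hr => ?_⟩
        · have hd : x⁻¹ * y * x * y⁻¹ ∈ C := by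
            have := hinv x hxR hxC y hyR
            rwa [inv_inv] at this
          rw [mul_pow_of_comm (c := x⁻¹ * y * x * y⁻¹) (by group)
            (hRc x hxR _ hd).symm (hRc y hyR _ hd).symm]
          exact mul_mem (mul_mem hxq (pow_mem hd _)) hyq
        · rw [show x * y * r * (x * y)⁻¹ * r⁻¹ = x * (y * r * y⁻¹ * r⁻¹) * x⁻¹ * (x * r * x⁻¹ * r⁻¹) by
            group, (hRc x hxR _ (hyC r hr)).eq, mul_inv_cancel_right]
          exact mul_mem (hyC r hr) (hxC r hr)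
      inv_mem' := by
        rintro x ⟨hxR, hxq, hxC⟩
        exact ⟨inv_mem hxR, by rw [inv_pow]; exact inv_mem hxq, hinv x hxR hxC⟩ }
  have hmem : ∀ {x : G}, x ∈ E ↔ x ∈ R ∧ x ^ q ∈ C ∧ ∀ r ∈ R, x * r * x⁻¹ * r⁻¹ ∈ C := Iff.rfl
  have hER : E ≤ R := fun x hx => hx.1
  have hCE : C ≤ E := fun c hc => hmem.2 ⟨hCR hc, pow_mem hc q, fun r hr => by
    rw [← (hRc r hr c hc).eq]; simp [mul_assoc]⟩
  have hEn : ∀ u ∈ H, ∀ x ∈ E, u * x * u⁻¹ ∈ E := by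
    intro u hu x hx
    obtain ⟨hxR, hxq, hxC⟩ := hmem.1 hx
    refine hmem.2 ⟨hRn u hu x hxR, by rw [conj_pow]; exact h.Cn u hu _ hxq, fun r hr => ?_⟩
    have h1 : u⁻¹ * r * u ∈ R := by simpa using hRn u⁻¹ (inv_mem hu) r hr
    have h2 := h.Cn u hu _ (hxC _ h1)
    rwa [show u * (x * (u⁻¹ * r * u) * x⁻¹ * (u⁻¹ * r * u)⁻¹) * u⁻¹ =
      u * x * u⁻¹ * r * (u * x * u⁻¹)⁻¹ * r⁻¹ by group] at h2
  have htrap : ∀ N : Subgroup G, N ≤ Q → (∀ x ∈ N, ∀ c ∈ C, x * c = c * x) → C ≤ N →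
      (∀ u ∈ H, ∀ x ∈ N, u * x * u⁻¹ ∈ N) → ¬ N ≤ C → ¬ N ⊓ E ≤ C := by
    intro N hNQ hNc hCN hNn hN hle
    have hNR : N ≤ R := fun x hx => mem_inf.2
      ⟨hNQ hx, mem_centralizer_iff.2 fun c hc => (hNc x hx c hc).symm⟩
    haveI hC' : (C.subgroupOf R).Normal := ⟨fun c hc r => mem_subgroupOf.2 (by
      rw [coe_mul, coe_mul, coe_inv, (hRc r r.2 _ (mem_subgroupOf.1 hc)).eq, mul_inv_cancel_right]
      exact mem_subgroupOf.1 hc)⟩
    haveI hN' : (N.subgroupOf R).Normal := ⟨fun x hx r => mem_subgroupOf.2 (by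
      rw [coe_mul, coe_mul, coe_inv]
      exact hNn r (hQH r.2.1) x (mem_subgroupOf.1 hx))⟩
    set π := QuotientGroup.mk' (C.subgroupOf R) with hπ
    haveI := hN'.map π (QuotientGroup.mk'_surjective _)
    have hpg : IsPGroup q (R ⧸ C.subgroupOf R) := (h.Qpg.to_le inf_le_left).to_quotient _
    haveI : Group.IsNilpotent (R ⧸ C.subgroupOf R) := hpg.isNilpotent
    have hne : (N.subgroupOf R).map π ≠ ⊥ := fun e => hN fun x hx => by
      have h1 : π ⟨x, hNR hx⟩ ∈ (N.subgroupOf R).map π := mem_map_of_mem _ (mem_subgroupOf.2 hx)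
      rw [e, mem_bot] at h1
      exact mem_subgroupOf.1 ((QuotientGroup.eq_one_iff _).1 h1)
    obtain ⟨ξ, hξ, hξ1⟩ : ∃ ξ ∈ (N.subgroupOf R).map π ⊓ center (R ⧸ C.subgroupOf R), ξ ≠ 1 := by
      by_contra hcon
      push Not at hcon
      exact CfsgLib.Coprime.nilpotent_inf_center_ne_bot _ hne ((eq_bot_iff_forall _).2 hcon)
    obtain ⟨m, hm⟩ := hpg ξ
    obtain ⟨i, -, hi⟩ := (Nat.dvd_prime_pow h.qprime).1 (orderOf_dvd_of_pow_eq_one hm)
    have hi0 : i ≠ 0 := fun e => hξ1 (orderOf_eq_one_iff.1 (by rw [hi, e, pow_zero]))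
    set η := ξ ^ q ^ (i - 1) with hη
    have hη1 : η ≠ 1 := fun e => by
      have h1 := Nat.le_of_dvd (pow_pos h.qprime.pos _) (hi ▸ orderOf_dvd_of_pow_eq_one e)
      have := (Nat.pow_le_pow_iff_right h.qprime.one_lt).1 h1
      omega
    have hηq : η ^ q = 1 := by
      rw [hη, ← pow_mul, ← pow_succ, show i - 1 + 1 = i by omega, ← hi, pow_orderOf_eq_one]
    obtain ⟨hηN, hηc⟩ := mem_inf.1 (pow_mem hξ (q ^ (i - 1)))
    obtain ⟨w, hw, hwη⟩ := hηN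
    have hwC : (w : G) ∉ C := fun hc => hη1 (by
      rw [hη, ← hwη]; exact (QuotientGroup.eq_one_iff _).2 (mem_subgroupOf.2 hc))
    refine hwC (hle (mem_inf.2 ⟨mem_subgroupOf.1 hw, hmem.2 ⟨w.2, ?_, fun r hr => ?_⟩⟩))
    · have h1 : π (w ^ q) = 1 := by rw [map_pow, hwη, ← hη, hηq]
      exact mem_subgroupOf.1 ((QuotientGroup.eq_one_iff _).1 h1)
    · have h1 : π (w * ⟨r, hr⟩ * w⁻¹ * ⟨r, hr⟩⁻¹) = 1 := by
        rw [map_mul, map_mul, map_mul, map_inv, map_inv, hwη,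
          ← mem_center_iff.1 hηc (π ⟨r, hr⟩)]
        group
      exact mem_subgroupOf.1 ((QuotientGroup.eq_one_iff _).1 h1)
  refine ⟨E, hCE, hER.trans inf_le_left, fun x hx => hRc x (hER hx), fun x hx => (hmem.1 hx).2.1,
    ?_, hEn, ?_, ?_, ?_, htrap⟩
  · intro x hx y hy
    set δ := x * y * x⁻¹ * y⁻¹ with hδ
    have hδC : δ ∈ C := (hmem.1 hx).2.2 y (hER hy)
    refine h.zuniq _ hδC ?_
    have h1 : x * y * x⁻¹ = δ * y := by rw [hδ]; group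
    have h2 : x * y ^ q * x⁻¹ = δ ^ q * y ^ q := by
      rw [← conj_pow, h1, (hRc y (hER hy) δ hδC).symm.mul_pow]
    rw [(hRc x (hER hx) _ (hmem.1 hy).2.1).eq, mul_inv_cancel_right] at h2
    exact mul_eq_right.1 h2.symm
  · intro x hx hxc
    have hA : E ⊓ centralizer (E : Set G) = C := h.Cmax _
      (fun c hc => mem_inf.2 ⟨hCE hc, mem_centralizer_iff.2 fun e he => hRc e (hER he) c hc⟩)
      (inf_le_left.trans (hER.trans inf_le_left))
      (fun a ha b hb => mem_centralizer_iff.1 hb.2 a ha.1)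
      fun u hu a ha => mem_inf.2 ⟨hEn u hu a ha.1, mem_centralizer_iff.2 fun e he => by
        have h1 : u⁻¹ * e * u ∈ E := by simpa using hEn u⁻¹ (inv_mem hu) e he
        calc e * (u * a * u⁻¹) = u * ((u⁻¹ * e * u) * a) * u⁻¹ := by group
          _ = u * (a * (u⁻¹ * e * u)) * u⁻¹ := by rw [mem_centralizer_iff.1 ha.2 _ h1]
          _ = u * a * u⁻¹ * e := by group⟩
    exact hA.le (mem_inf.2 ⟨hx, mem_centralizer_iff.2 fun e he => (hxc e he).symm⟩)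
  · intro hle
    obtain ⟨x, hx, hxc, hxC⟩ := hR
    refine htrap R inf_le_left (fun r hr c hc => hRc r hr c hc) hCR hRn
      (fun hsub => hxC (hsub (mem_inf.2 ⟨hx, mem_centralizer_iff.2 fun c hc => (hxc c hc).symm⟩)))
      (inf_le_right.trans hle)
  · exact fun y hy hyc x hx => (hmem.1 hx).2.2 y
      (mem_inf.2 ⟨hy, mem_centralizer_iff.2 fun c hc => (hyc c hc).symm⟩)

variable {E : Subgroup G}

/-- The commutator pairing of `E`. -/
theorem Ext.pairing (hE : Ext H Q C q z E) (h : Loc D V H p q Q C z) {S : Subgroup G} (hS : S ≤ E) :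
    (E ⊓ centralizer (S : Set G)).relIndex E = C.relIndex S ∧
      ∀ f : G → G, (∀ s ∈ S, f s ∈ zpowers z) → (∀ s ∈ S, ∀ t ∈ S, f (s * t) = f s * f t) →
        (∀ s ∈ S, s ∈ C → f s = 1) → ∃ e ∈ E, ∀ s ∈ S, e * s * e⁻¹ = f s * s := by
  classical
  set K := E ⊓ centralizer (S : Set G) with hK
  have hcz : ∀ x ∈ E, ∀ ε ∈ zpowers z, Commute x ε := fun x hx ε hε =>
    hE.cent x hx ε (zpowers_le.2 h.zC hε)
  haveI hCn : (C.subgroupOf S).Normal := ⟨fun c hc s => mem_subgroupOf.2 (by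
    rw [coe_mul, coe_mul, coe_inv, (hE.cent s (hS s.2) _ (mem_subgroupOf.1 hc)).eq, mul_inv_cancel_right]
    exact mem_subgroupOf.1 hc)⟩
  haveI hKn : (K.subgroupOf E).Normal := ⟨fun k hk e => mem_subgroupOf.2 (by
    have hkK := mem_inf.1 (mem_subgroupOf.1 hk)
    set δ : G := (e : G) * k * (e : G)⁻¹ * (k : G)⁻¹ with hδ
    rw [coe_mul, coe_mul, coe_inv, show (e : G) * k * (e : G)⁻¹ = δ * k by rw [hδ]; group]
    have hδz : δ ∈ zpowers z := hE.com e e.2 k hkK.1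
    exact mul_mem (mem_inf.2 ⟨hE.Cle (zpowers_le.2 h.zC hδz),
      mem_centralizer_iff.2 fun s hs => (hcz s (hS hs) δ hδz).eq⟩) (mem_subgroupOf.1 hk))⟩
  let κ : E → S → zpowers z := fun e s =>
    ⟨(e : G) * s * (e : G)⁻¹ * (s : G)⁻¹, hE.com e e.2 s (hS s.2)⟩
  have hκ1 : ∀ (e : E) (s t : S), κ e (s * t) = κ e s * κ e t := fun e s t => Subtype.ext (by
    show (e : G) * (s * t) * (e : G)⁻¹ * ((s : G) * t)⁻¹ =
      ((e : G) * s * (e : G)⁻¹ * (s : G)⁻¹) * ((e : G) * t * (e : G)⁻¹ * (t : G)⁻¹)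
    have h1 := hcz s (hS s.2) _ (hE.com e e.2 t (hS t.2))
    calc (e : G) * (s * t) * (e : G)⁻¹ * ((s : G) * t)⁻¹
        = ((e : G) * s * (e : G)⁻¹) * ((e : G) * t * (e : G)⁻¹ * (t : G)⁻¹) * (s : G)⁻¹ := by group
      _ = ((e : G) * s * (e : G)⁻¹) * ((s : G)⁻¹ * ((e : G) * t * (e : G)⁻¹ * (t : G)⁻¹)) := by
          rw [(h1.inv_left).eq]; group
      _ = _ := by group)
  have hκ2 : ∀ (e e' : E) (s : S), κ (e * e') s = κ e s * κ e' s := fun e e' s => Subtype.ext (by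
    show (e : G) * e' * s * ((e : G) * e')⁻¹ * (s : G)⁻¹ =
      ((e : G) * s * (e : G)⁻¹ * (s : G)⁻¹) * ((e' : G) * s * (e' : G)⁻¹ * (s : G)⁻¹)
    set δ : G := (e' : G) * s * (e' : G)⁻¹ * (s : G)⁻¹ with hδ
    have hδz : δ ∈ zpowers z := hE.com e' e'.2 s (hS s.2)
    have h1 := hcz e e.2 δ hδz
    have h2 := hcz ((e : G) * s * (e : G)⁻¹ * (s : G)⁻¹)
      (mul_mem (mul_mem (mul_mem e.2 (hS s.2)) (inv_mem e.2)) (inv_mem (hS s.2))) δ hδz
    calc (e : G) * e' * s * ((e : G) * e')⁻¹ * (s : G)⁻¹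
        = (e : G) * δ * s * (e : G)⁻¹ * (s : G)⁻¹ := by rw [hδ]; group
      _ = δ * ((e : G) * s * (e : G)⁻¹ * (s : G)⁻¹) := by rw [h1.eq]; group
      _ = _ := h2.eq.symm)
  have hκC : ∀ (e : E) (s : S), (s : G) ∈ C → κ e s = 1 := fun e s hs => Subtype.ext (by
    show (e : G) * s * (e : G)⁻¹ * (s : G)⁻¹ = 1
    rw [(hE.cent e e.2 _ hs).eq]; group)
  have hκK : ∀ (e : E) (s : S), (e : G) ∈ K → κ e s = 1 := fun e s he => Subtype.ext (by
    show (e : G) * s * (e : G)⁻¹ * (s : G)⁻¹ = 1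
    rw [← mem_centralizer_iff.1 (mem_inf.1 he).2 s s.2]; group)
  let Φ0 : E → (S ⧸ C.subgroupOf S →* zpowers z) := fun e =>
    QuotientGroup.lift _ (MonoidHom.mk' (κ e) (hκ1 e))
      fun s hs => MonoidHom.mem_ker.2 (hκC e s (mem_subgroupOf.1 hs))
  let Φ : E ⧸ K.subgroupOf E → (S ⧸ C.subgroupOf S →* zpowers z) := fun c => Φ0 c.out
  let Ψ0 : S → (E ⧸ K.subgroupOf E →* zpowers z) := fun s =>
    QuotientGroup.lift _ (MonoidHom.mk' (fun e => κ e s) fun e e' => hκ2 e e' s)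
      fun e he => MonoidHom.mem_ker.2 (hκK e s (mem_subgroupOf.1 he))
  let Ψ : S ⧸ C.subgroupOf S → (E ⧸ K.subgroupOf E →* zpowers z) := fun c => Ψ0 c.out
  have hΦ : Function.Injective Φ := fun a b hab => by
    rw [← a.out_eq, ← b.out_eq]
    refine QuotientGroup.eq.2 (mem_subgroupOf.2 (mem_inf.2 ⟨(a.out⁻¹ * b.out).2,
      mem_centralizer_iff.2 fun s hs => ?_⟩))
    have h1 : (a.out : G) * s * (a.out : G)⁻¹ * s⁻¹ = (b.out : G) * s * (b.out : G)⁻¹ * s⁻¹ :=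
      congrArg Subtype.val (DFunLike.congr_fun hab (QuotientGroup.mk (⟨s, hs⟩ : S)))
    rw [mul_left_inj] at h1
    rw [coe_mul, coe_inv]
    calc s * ((a.out : G)⁻¹ * b.out) = (a.out : G)⁻¹ * ((a.out : G) * s * (a.out : G)⁻¹) * b.out := by
          group
      _ = (a.out : G)⁻¹ * ((b.out : G) * s * (b.out : G)⁻¹) * b.out := by rw [h1]
      _ = _ := by group
  have hΨ : Function.Injective Ψ := fun a b hab => by
    rw [← a.out_eq, ← b.out_eq]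
    refine QuotientGroup.eq.2 (mem_subgroupOf.2 (hE.center _ (hS (a.out⁻¹ * b.out).2) fun e he => ?_))
    have h1 : e * (a.out : G) * e⁻¹ * (a.out : G)⁻¹ = e * (b.out : G) * e⁻¹ * (b.out : G)⁻¹ :=
      congrArg Subtype.val (DFunLike.congr_fun hab (QuotientGroup.mk (⟨e, he⟩ : E)))
    have h2 := hκ1 ⟨e, he⟩ a.out (a.out⁻¹ * b.out)
    rw [mul_inv_cancel_left] at h2
    have h3 : κ ⟨e, he⟩ a.out = κ ⟨e, he⟩ b.out := Subtype.ext h1
    rw [← h3, eq_comm, mul_eq_left] at h2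
    have h4 : e * ((a.out⁻¹ * b.out : S) : G) * e⁻¹ * ((a.out⁻¹ * b.out : S) : G)⁻¹ = 1 :=
      congrArg Subtype.val h2
    rw [mul_inv_eq_one, mul_inv_eq_iff_eq_mul] at h4
    exact h4.symm
  haveI : Finite (E ⧸ K.subgroupOf E →* zpowers z) :=
    Finite.of_injective (fun f => (f : _ → zpowers z)) DFunLike.coe_injective
  haveI : Finite (S ⧸ C.subgroupOf S →* zpowers z) :=
    Finite.of_injective (fun f => (f : _ → zpowers z)) DFunLike.coe_injective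
  have h1 := (Nat.card_le_card_of_injective Φ hΦ).trans (card_hom_le _ _)
  have h2 := (Nat.card_le_card_of_injective Ψ hΨ).trans (card_hom_le _ _)
  refine ⟨le_antisymm h1 h2, fun f hf hfm hfC => ?_⟩
  have hbij : Function.Bijective Φ := hΦ.bijective_of_nat_card_le ((card_hom_le _ _).trans h2)
  obtain ⟨c, hc⟩ := hbij.2 (QuotientGroup.lift _
    (MonoidHom.mk' (fun s : S => (⟨f s, hf s s.2⟩ : zpowers z))
      fun s t => Subtype.ext (hfm s s.2 t t.2))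
    fun s hs => MonoidHom.mem_ker.2 (Subtype.ext (hfC s s.2 (mem_subgroupOf.1 hs))))
  refine ⟨c.out, c.out.2, fun s hs => ?_⟩
  have h3 : (c.out : G) * s * (c.out : G)⁻¹ * s⁻¹ = f s :=
    congrArg Subtype.val (DFunLike.congr_fun hc (QuotientGroup.mk (⟨s, hs⟩ : S)))
  rw [← h3, inv_mul_cancel_right]

end CfsgLib.DerangeIndex
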