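import Cfsg.Agent.Lib.Perm.DerangeIndex.Bound
import Cfsg.Agent.Lib.Coprime.UniqueOrderP

/-!
If the index is large, `H ∩ D` acts without fixed points.
-/

set_option autoImplicit false
set_option linter.unusedSectionVars false

open Subgroup

namespace CfsgLib.DerangeIndex

variable {G : Type*} [Group G] [Finite G] {D V H : Subgroup G} {p : ℕ}

theorem Mod.restrict (h : Mod D V H p) {K : Subgroup G} (hK : K ≤ H) (hcov : Covers D K) :
    Mod D V K p where
  normal := h.normal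
  prime := h.prime
  pgroup := h.pgroup
  nontriv := h.nontriv
  comm := h.comm
  nrm := hK.trans h.nrm
  cop := h.isPGroup_inf (inf_le_inf_right D hK)
  faith x hx := h.faith x (hK hx)
  fpf x hx := h.fpf x (hK hx)
  cov := hcov
  irr K' hK' := h.irr K' (hK'.trans hK)

theorem Mod.fpf_of_large (h : Mod D V H p) (hbig : Nat.card V < (D.index + 1) ^ 2) :
    ∀ y ∈ H ⊓ D, y ≠ 1 → ∀ v ∈ V, y * v = v * y → v = 1 := by
  intro y hy hy1 v hv hyv
  by_contra hv1
  obtain ⟨q, hq, hqy⟩ := Nat.exists_prime_and_dvd (show orderOf y ≠ 1 by rwa [Ne, orderOf_eq_one_iff])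
  haveI := Fact.mk hq
  obtain ⟨j, hj⟩ := hqy
  set w := y ^ j with hwdef
  have hw : orderOf w = q := by
    have hj0 : j ≠ 0 := fun e' => (orderOf_pos y).ne' (by rw [hj, e', mul_zero])
    rw [hwdef, orderOf_pow' _ hj0, Nat.gcd_eq_right ⟨q, by rw [hj, mul_comm]⟩, hj,
      Nat.mul_div_cancel _ (Nat.pos_of_ne_zero hj0)]
  have hwq : w ^ q = 1 := hw ▸ pow_orderOf_eq_one w
  have hwM : w ∈ H ⊓ D := pow_mem hy j
  have hwv : w * v = v * w := (Commute.pow_left (hyv : Commute y v) j).eq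
  have hpg : IsPGroup q ((zpowers w).subgroupOf (H ⊓ D)) := by
    refine fun x => ⟨1, Subtype.ext (Subtype.ext ?_)⟩
    obtain ⟨i, hi⟩ := mem_zpowers_iff.1 (mem_subgroupOf.1 x.2)
    simp only [pow_one, coe_pow, coe_one]
    rw [← hi, ← zpow_natCast (w ^ i), ← zpow_mul, mul_comm, zpow_mul, zpow_natCast, hwq, one_zpow]
  obtain ⟨S, hS⟩ := hpg.exists_le_sylow
  set Q := (S : Subgroup ↥(H ⊓ D)).map (H ⊓ D).subtype with hQ
  have hwQ : w ∈ Q := ⟨⟨w, hwM⟩, hS (mem_subgroupOf.2 (mem_zpowers w)), rfl⟩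
  set K := H ⊓ normalizer (Q : Set G) with hK
  haveI := h.normal
  have hcov : Covers D K := h.cov.normalizer_sylow inf_le_right inf_le_left
    (fun k hk x hx => mem_inf.2 ⟨mul_mem (mul_mem hk hx.1) (inv_mem hk), h.normal.conj_mem x hx.2 k⟩) S
  have hmod := h.restrict (K := K) inf_le_left hcov
  have hQK : Q ≤ K ⊓ D := fun x hx =>
    mem_inf.2 ⟨mem_inf.2 ⟨(map_subtype_le _ hx).1, le_normalizer hx⟩, (map_subtype_le _ hx).2⟩
  have hQn : ∀ u ∈ K, ∀ x ∈ Q, u * x * u⁻¹ ∈ Q := fun u hu x hx => (mem_normalizer_iff.1 hu.2 x).1 hx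
  have hQpg : IsPGroup q Q := S.2.map _
  -- a maximal invariant abelian subgroup
  obtain ⟨C, hC⟩ := Set.Finite.exists_maximal
    (Set.toFinite {A : Subgroup G | A ≤ Q ∧ (∀ x ∈ A, ∀ x' ∈ A, x * x' = x' * x) ∧
      ∀ u ∈ K, ∀ x ∈ A, u * x * u⁻¹ ∈ A})
    ⟨⊥, bot_le, fun x hx x' hx' => by simp [mem_bot.1 hx], fun u _ x hx => by simp [mem_bot.1 hx]⟩
  obtain ⟨⟨hCQ, hCc, hCn⟩, hCmax⟩ := hC
  have hCne : C ≠ ⊥ := by
    intro e'
    haveI : Nontrivial Q := ⟨⟨w, hwQ⟩, 1, fun e'' => hq.ne_one (by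
      rw [← hw, show w = 1 from congrArg Subtype.val e'', orderOf_one])⟩
    have hmem : (center Q).map Q.subtype ≤ C := hCmax (y := (center Q).map Q.subtype)
      ⟨map_subtype_le _, by
        rintro _ ⟨a, ha, rfl⟩ _ ⟨b, hb, rfl⟩
        exact (congrArg Subtype.val (mem_center_iff.1 ha b)).symm, by
        rintro u hu _ ⟨a, ha, rfl⟩
        refine ⟨⟨_, hQn u hu a a.2⟩, mem_center_iff.2 fun b => Subtype.ext ?_, rfl⟩
        have hb : u⁻¹ * (b : G) * u ∈ Q := by simpa using hQn u⁻¹ (inv_mem hu) b b.2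
        have h1 := congrArg Subtype.val (mem_center_iff.1 ha ⟨_, hb⟩)
        simp only [coe_mul] at h1
        show (b : G) * (u * a * u⁻¹) = u * a * u⁻¹ * b
        calc (b : G) * (u * a * u⁻¹) = u * ((u⁻¹ * b * u) * a) * u⁻¹ := by group
          _ = u * ((a : G) * (u⁻¹ * b * u)) * u⁻¹ := by rw [h1]
          _ = _ := by group⟩ (e' ▸ bot_le)
    rw [e', le_bot_iff] at hmem
    exact hQpg.bot_lt_center.ne' ((map_eq_bot_iff_of_injective _ Q.subtype_injective).1 hmem)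
  have hCpg : IsPGroup q C := hQpg.to_le hCQ
  -- its elements of order `q`
  let O : Subgroup G :=
    { carrier := {x | x ∈ C ∧ x ^ q = 1}
      one_mem' := ⟨one_mem C, one_pow q⟩
      mul_mem' := fun {a b} ha hb => ⟨mul_mem ha.1 hb.1, by
        rw [Commute.mul_pow (hCc a ha.1 b hb.1), ha.2, hb.2, one_mul]⟩
      inv_mem' := fun {a} ha => ⟨inv_mem ha.1, by rw [inv_pow, ha.2, inv_one]⟩ }
  have hOe : Cfsg.IsElementaryAbelian q O :=
    ⟨⟨⟨fun a b => Subtype.ext (hCc a a.2.1 b b.2.1)⟩⟩, fun a ha => ha.2⟩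
  have hOn : ∀ u ∈ K, ∀ x ∈ O, u * x * u⁻¹ ∈ O := fun u hu x hx =>
    ⟨hCn u hu x hx.1, by rw [conj_pow, hx.2, mul_one, mul_inv_cancel]⟩
  have hOsmall : Nat.card O < q ^ 2 := by
    by_contra hle
    exact absurd (hmod.of_normal_elementary (A := O) ((fun x hx => hQK (hCQ hx.1)) : O ≤ K ⊓ D)
      hOe (not_lt.1 hle) hOn) (not_le.2 hbig)
  obtain ⟨z, hzC, hzo⟩ : ∃ z ∈ C, orderOf z = q := by
    obtain ⟨x, hx, hx1⟩ : ∃ x ∈ C, x ≠ 1 := by
      by_contra hcon
      push Not at hcon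
      exact hCne ((eq_bot_iff_forall _).2 hcon)
    obtain ⟨z, hz⟩ := exists_prime_orderOf_dvd_card' (G := C) q (by
      obtain ⟨m, hm⟩ := hCpg.exists_card_eq
      rw [hm]
      refine dvd_pow_self q fun e' => hx1 ?_
      rw [e', pow_zero] at hm
      exact mem_bot.1 (eq_bot_of_card_eq _ hm ▸ hx))
    exact ⟨z, z.2, by rw [← hz, orderOf_coe]⟩
  have hzO : z ∈ O := ⟨hzC, hzo ▸ pow_orderOf_eq_one z⟩
  have hOz : O = zpowers z := by
    obtain ⟨m, hm⟩ := ((hCpg.to_le (fun x hx => hx.1)) : IsPGroup q O).exists_card_eq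
    have hm1 : m < 2 := (Nat.pow_lt_pow_iff_right hq.one_lt).1 (hm ▸ hOsmall)
    refine (eq_of_le_of_card_ge (zpowers_le.2 hzO) ?_).symm
    rw [hm, Nat.card_zpowers, hzo]
    calc q ^ m ≤ q ^ 1 := Nat.pow_le_pow_right hq.pos (by omega)
      _ = q := pow_one q
  have hzuniq : ∀ x ∈ C, x ^ q = 1 → x ∈ zpowers z := fun x hx hxq => hOz ▸ (⟨hx, hxq⟩ : x ∈ O)
  obtain ⟨c₀, hc₀⟩ : IsCyclic C := by
    haveI : IsMulCommutative C := ⟨⟨fun a b => Subtype.ext (hCc a a.2 b b.2)⟩⟩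
    refine CfsgLib.Coprime.isCyclic_of_comm_of_unique hCpg fun a b ha hb ha1 => ?_
    have ha' := hzuniq a a.2 (by simpa using congrArg Subtype.val ha)
    have hb' := hzuniq b b.2 (by simpa using congrArg Subtype.val hb)
    have hoa : orderOf (a : G) = q := orderOf_eq_prime (by simpa using congrArg Subtype.val ha)
      fun e' => ha1 (Subtype.ext e')
    have heq := eq_of_le_of_card_ge (zpowers_le.2 ha')
      (by rw [Nat.card_zpowers, Nat.card_zpowers, hzo, hoa])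
    obtain ⟨i, hi⟩ := mem_zpowers_iff.1 (heq.ge hb')
    exact ⟨i, Subtype.ext (by simpa using hi)⟩
  have hCz : C = zpowers (c₀ : G) := le_antisymm
    (fun x hx => by
      obtain ⟨i, hi⟩ := mem_zpowers_iff.1 (hc₀ ⟨x, hx⟩)
      exact ⟨i, by simpa using congrArg Subtype.val hi⟩) (zpowers_le.2 c₀.2)
  have hfixz : fix V (zpowers z) = ⊥ := hmod.fix_eq_bot
    (zpowers_le.2 (hQK (hCQ hzC)).1) (fun e' => hq.ne_one (by
      rw [← hzo, show z = 1 from mem_bot.1 (e' ▸ mem_zpowers z), orderOf_one]))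
    fun u hu x hx => by
      rw [← hOz] at hx ⊢
      simpa using hOn u⁻¹ (inv_mem hu) x hx
  have hloc : Loc D V K p q Q C z :=
    { mod := hmod
      qprime := hq
      big := hbig
      Qle := hQK
      Qpg := hQpg
      Qn := hQn
      nonfpf := ⟨w, hwQ, fun e' => hq.ne_one (by rw [← hw, e', orderOf_one]), v, hv, hv1, hwv⟩
      CQ := hCQ
      Ccyc := ⟨c₀, c₀.2, hCz⟩
      Cn := hCn
      Cmax := fun A hA hAQ hAc hAn => le_antisymm (hCmax ⟨hAQ, hAc, hAn⟩ hA) hA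
      zC := hzC
      zord := hzo
      zuniq := hzuniq
      Cfpf := fun x hx hx1 v' hv' hxv => by
        have hzx : z ∈ zpowers x := by
          obtain ⟨z', hz'⟩ := exists_prime_orderOf_dvd_card' (G := zpowers x) q (by
            obtain ⟨m, hm⟩ := (hCpg.to_le (zpowers_le.2 hx)).exists_card_eq
            rw [hm]
            refine dvd_pow_self q fun e' => hx1 ?_
            rw [e', pow_zero] at hm
            exact mem_bot.1 (eq_bot_of_card_eq _ hm ▸ mem_zpowers x))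
          have hz'' : orderOf (z' : G) = q := by rw [← hz', orderOf_coe]
          have h2 : (z' : G) ∈ zpowers z :=
            hzuniq _ (zpowers_le.2 hx z'.2) (hz'' ▸ pow_orderOf_eq_one _)
          have heq := eq_of_le_of_card_ge (zpowers_le.2 h2)
            (by rw [Nat.card_zpowers, Nat.card_zpowers, hzo, hz''])
          exact zpowers_le.2 z'.2 (heq.ge (mem_zpowers z))
        have h3 : v' ∈ fix V (zpowers z) := mem_fix.2 ⟨hv', fun b hb => by
          obtain ⟨i, rfl⟩ := mem_zpowers_iff.1 (zpowers_le.2 hzx hb)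
          exact (Commute.zpow_left (hxv : Commute x v') i).eq⟩
        rwa [hfixz, mem_bot] at h3 }
  by_cases hR : ∃ x ∈ Q, (∀ c ∈ C, x * c = c * x) ∧ x ∉ C
  · exact hloc.false_of_noncyclic hR
  · push Not at hR
    exact hloc.false_of_cyclic hR

end CfsgLib.DerangeIndex
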