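import Cfsg.Agent.Lib.Perm.DerangeIndex.Reduce
import Cfsg.Agent.Lib.Perm.DerangeIndex.Local
import Cfsg.Agent.Lib.Perm.DerangeIndex.CC.Normal
import Mathlib.GroupTheory.GroupAction.Primitive
import Mathlib.GroupTheory.Transfer

/-!
A pair with large index and degree at least eight has a regular normal subgroup on which the point stabiliser acts
without fixed points and irreducibly.
-/

set_option autoImplicit false
set_option linter.unusedSectionVars false

open MulAction Subgroup

namespace CfsgLib.DerangeIndex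

universe u v

variable {G : Type u} {Ω : Type v} [Group G] [Finite G] [MulAction G Ω] [Finite Ω]
variable {D : Subgroup G} {a : Ω} {p e : ℕ}

theorem Red.frobenius (h : Red G Ω D a p e) (hbig : Nat.card Ω < (D.index + 1) ^ 2)
    (hn8 : 8 ≤ Nat.card Ω) :
    ∃ P : Subgroup G, P.Normal ∧ (∀ b c : Ω, ∃ u ∈ P, u • b = c) ∧
      (∀ u ∈ P, ∀ b : Ω, u • b = b → u = 1) ∧
      (∀ g ∈ stabilizer G a, g ≠ 1 → ∀ v ∈ P, g * v = v * g → v = 1) ∧
      (∀ W : Subgroup G, W ≤ P → (∀ g ∈ stabilizer G a, ∀ w ∈ W, g * w * g⁻¹ ∈ W) → W = ⊥ ∨ W = P) ∧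
      2 ≤ D.index := by
  classical
  haveI := Fact.mk h.prime
  haveI := h.pair.normal
  set n := Nat.card Ω with hndef
  set k := D.index with hkdef
  have hk2 : 2 ≤ k := by
    by_contra hlt
    have : (k + 1) ^ 2 ≤ 4 := (Nat.pow_le_pow_left (show k + 1 ≤ 2 by omega) 2).trans (by norm_num)
    omega
  obtain ⟨P, hPD, hPpg, hPcard, hsemi, htr, hcov, hPc, hirr⟩ := h.exists_regular
  set H := normalizer (P : Set G) ⊓ stabilizer G a with hHdef
  have hHa : ∀ g ∈ H, g • a = a := fun g hg => (mem_inf.1 hg).2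
  have hcommfix : ∀ g : G, ∀ u ∈ P, g • a = a → g * u = u * g → g • (u • a) = u • a :=
    fun g u _ hg he => by rw [← mul_smul, he, mul_smul, hg]
  have hmod : Mod D P H p :=
    { normal := h.pair.normal
      prime := h.prime
      pgroup := hPpg
      nontriv := fun e' => by
        rw [e', card_bot] at hPcard
        rw [h.card, ← hPcard] at hndef
        omega
      comm := hPc
      nrm := inf_le_left
      cop := fun hd => h.not_dvd_stab (hd.trans (card_dvd_of_le
        (le_inf inf_le_right (inf_le_left.trans inf_le_right))))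
      faith := fun g hg hgc => h.faith g fun b => by
        obtain ⟨u, hu, rfl⟩ := htr a b
        exact hcommfix g u hu (hHa g hg) (hgc u hu)
      fpf := fun g hg hgD v hv he => hsemi v hv a
        (h.pair.uniq g hgD _ _ (hcommfix g v hv (hHa g hg) he) (hHa g hg))
      cov := hcov
      irr := fun K hK hKc => hirr K hKc (hK.trans inf_le_right) }
  have hV : Nat.card P = n := by rw [hPcard, ← h.card]
  have hfpfD := hmod.fpf_of_large (by rw [hV]; exact hbig)
  have hfpf : ∀ g ∈ H, g ≠ 1 → ∀ v ∈ P, g * v = v * g → v = 1 := fun g hg hg1 v hv he => by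
    by_cases hgD : g ∈ D
    · exact hfpfD g (mem_inf.2 ⟨hg, hgD⟩) hg1 v hv he
    · exact hmod.fpf g hg hgD v hv he
  have hdec : ∀ w ∈ normalizer (P : Set G), ∃ t ∈ P, t⁻¹ * w ∈ H := fun w hw => by
    obtain ⟨t, ht, he⟩ := htr a (w • a)
    refine ⟨t, ht, mem_inf.2 ⟨mul_mem (inv_mem (le_normalizer ht)) hw, ?_⟩⟩
    rw [mem_stabilizer_iff, mul_smul, ← he, inv_smul_smul]
  -- centralizers in `D`
  have hcent : ∀ u ∈ P, u ≠ 1 → ∀ x ∈ D, x * u = u * x → x ∈ P := by
    intro u hu hu1 x hx hxu
    set C := D ⊓ centralizer ({u} : Set G) with hC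
    have hPC : P ≤ C := fun w hw => mem_inf.2
      ⟨hPD hw, mem_centralizer_singleton_iff.2 (hPc w hw u hu)⟩
    have hxC : x ∈ C := mem_inf.2 ⟨hx, mem_centralizer_singleton_iff.2 hxu⟩
    have hpd : ¬ p ∣ (P.subgroupOf C).index := by
      intro hd
      have h1 : (P.subgroupOf C).index ∣ P.relIndex D := by
        rw [← relIndex_mul_relIndex P C D hPC inf_le_left]
        exact dvd_mul_right _ _
      have h2 := relIndex_mul_relIndex ⊥ P D bot_le hPD
      rw [relIndex_bot_left, relIndex_bot_left, hPcard, ← h.pair.card_eq a, h.card,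
        Nat.mul_left_cancel_iff (pow_pos h.prime.pos e)] at h2
      exact h.not_dvd_stab (h2 ▸ hd.trans h1)
    have hpg : IsPGroup p (P.subgroupOf C) := hPpg.comap_of_injective _ C.subtype_injective
    let S : Sylow p C := hpg.toSylow hpd
    have hS : (S : Subgroup C) = P.subgroupOf C := rfl
    have hNC : normalizer (S : Set C) ≤ centralizer (S : Set C) := by
      intro w hw
      have hwN : (w : G) ∈ normalizer (P : Set G) := mem_nrm fun y hy => by
        have h1 := (mem_normalizer_iff.1 hw ⟨y, hPC hy⟩).1 (mem_subgroupOf.2 hy)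
        exact mem_subgroupOf.1 h1
      obtain ⟨t, ht, htH⟩ := hdec _ hwN
      have hwP : (w : G) ∈ P := by
        by_contra hne
        have h1 : t⁻¹ * (w : G) ≠ 1 := fun e' => hne (inv_mul_eq_one.1 e' ▸ ht)
        refine hu1 (hfpf _ htH h1 u hu ?_)
        have h2 : Commute t⁻¹ u := Commute.inv_left (hPc t ht u hu)
        exact (h2.mul_left (mem_centralizer_singleton_iff.1 (mem_inf.1 w.2).2)).eq
      rw [mem_centralizer_iff]
      intro y hy
      exact Subtype.ext (hPc y (mem_subgroupOf.1 hy) w hwP)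
    haveI : IsPretransitive C Ω := ⟨fun b c => by
      obtain ⟨w, hw, he⟩ := htr b c
      exact ⟨⟨w, hPC hw⟩, he⟩⟩
    set N := (MonoidHom.transferSylow S hNC).ker with hN
    have hcompl := MonoidHom.ker_transferSylow_isComplement' S hNC
    have hNp : ¬ p ∣ Nat.card N := MonoidHom.not_dvd_card_ker_transferSylow S hNC
    have hNbot : N = ⊥ := by
      refine (eq_bot_iff_forall _).2 fun y hy => Subtype.ext (h.faith _ fun b => ?_)
      have hB : IsBlock C (MulAction.orbit N b) := IsBlock.orbit_of_normal b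
      have h1 := hB.ncard_dvd_card (MulAction.nonempty_orbit b)
      have h2 : (MulAction.orbit N b).ncard ∣ Nat.card N := by
        rw [← index_stabilizer]
        exact index_dvd_card _
      rw [h.card] at h1
      have h3 : (MulAction.orbit N b).ncard = 1 := Nat.eq_one_of_dvd_coprimes
        (Nat.Coprime.pow_left e (h.prime.coprime_iff_not_dvd.2 hNp)) h1 h2
      obtain ⟨c, hc⟩ := Set.ncard_eq_one.1 h3
      have e1 : (y • b : Ω) ∈ MulAction.orbit N b := ⟨⟨y, hy⟩, rfl⟩
      have e2 : b ∈ MulAction.orbit N b := MulAction.mem_orbit_self b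
      rw [hc, Set.mem_singleton_iff] at e1 e2
      show (y : G) • b = b
      exact e1.trans e2.symm
    rw [← hN, hNbot, isComplement'_bot_left] at hcompl
    have : (⟨x, hxC⟩ : C) ∈ (S : Subgroup C) := hcompl ▸ mem_top _
    exact mem_subgroupOf.1 (hS ▸ this)
  -- the action of `D`
  haveI := Fintype.ofFinite D
  set P' := P.subgroupOf D with hP'
  haveI := Fintype.ofFinite P'
  haveI : IsPretransitive D Ω := ⟨fun b c => by
    obtain ⟨d, hd, he⟩ := h.pair.trans b c
    exact ⟨⟨d, hd⟩, he⟩⟩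
  have hcc : CC P' :=
    ⟨fun x hx y hy => Subtype.ext (hPc x (mem_subgroupOf.1 hx) y (mem_subgroupOf.1 hy)),
      fun u hu hu1 x hxu => mem_subgroupOf.2 (hcent u (mem_subgroupOf.1 hu)
        (fun e' => hu1 (Subtype.ext e')) x x.2 (congrArg Subtype.val hxu))⟩
  have hP'card : Nat.card P' = n := by rw [← hV]; exact Nat.card_congr (subgroupOfEquivOfLe hPD).toEquiv
  have h2t : ¬ IsMultiplyPretransitive D Ω 2 := by
    intro h2
    obtain ⟨g₀, hg₀⟩ : ∃ g, g ∉ D := by
      by_contra hcon
      push Not at hcon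
      have : D = ⊤ := eq_top_iff.2 fun g _ => hcon g
      rw [hkdef, this, index_top] at hk2
      omega
    obtain ⟨g, hga, hgD⟩ := h.pair.covers_stabilizer a g₀
    have hgnD : g ∉ D := fun hg => hg₀ (by rw [show g₀ = g * (g⁻¹ * g₀) by group]; exact mul_mem hg hgD)
    haveI : Nontrivial Ω := Finite.one_lt_card_iff_nontrivial.1 (by omega)
    obtain ⟨b, hb⟩ := exists_ne a
    have hgb : g • b ≠ a := fun e' => hb (MulAction.injective g (e'.trans (mem_stabilizer_iff.1 hga).symm))
    obtain ⟨d, hd1, hd2⟩ := (is_two_pretransitive_iff (G := D) (α := Ω)).1 h2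
      hb.symm hgb.symm
    refine hb.symm (h.pair.uniq ((d : G)⁻¹ * g)
      (fun hm => hgnD (by simpa using mul_mem d.2 hm)) a b ?_ ?_)
    · rw [mul_smul, mem_stabilizer_iff.1 hga, inv_smul_eq_iff]
      exact hd1.symm
    · rw [mul_smul, inv_smul_eq_iff]
      exact hd2.symm
  -- the order of `H ∩ D`
  set m := Nat.card ↥(H ⊓ D) with hm
  have hkm : k * m ≤ n - 1 := by
    have hHcard : Nat.card H = m * k := by
      rw [hkdef, ← hcov.relIndex, hm]
      have := relIndex_mul_relIndex ⊥ (H ⊓ D) H bot_le inf_le_left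
      rw [relIndex_bot_left, relIndex_bot_left, inf_comm, inf_relIndex_right] at this
      rw [inf_comm]
      exact this.symm
    obtain ⟨v, hv, hv1⟩ : ∃ v ∈ P, v ≠ 1 := by
      by_contra hcon
      push Not at hcon
      exact hmod.nontriv ((eq_bot_iff_forall _).2 hcon)
    have hinj : Nat.card H ≤ Nat.card {x : P // x ≠ 1} := by
      refine Nat.card_le_card_of_injective (fun g => ⟨⟨g * v * (g : G)⁻¹,
        (mem_normalizer_iff.1 (mem_inf.1 g.2).1 v).1 hv⟩, fun e' => hv1 (by
          simpa using congrArg Subtype.val e')⟩) fun x y hxy => ?_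
      have e1 : (x : G) * v * (x : G)⁻¹ = (y : G) * v * (y : G)⁻¹ :=
        congrArg (fun z : {x : P // x ≠ 1} => ((z : P) : G)) hxy
      by_contra hne
      refine hv1 (hfpf ((y : G)⁻¹ * x) (mul_mem (inv_mem y.2) x.2)
        (fun e' => hne (Subtype.ext (inv_mul_eq_one.1 e').symm)) v hv ?_)
      calc (y : G)⁻¹ * x * v = (y : G)⁻¹ * ((x : G) * v * (x : G)⁻¹) * x := by group
        _ = (y : G)⁻¹ * ((y : G) * v * (y : G)⁻¹) * x := by rw [e1]
        _ = _ := by group
    have hcnt : Nat.card {x : P // x ≠ 1} = n - 1 := by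
      haveI := Fintype.ofFinite P
      rw [← hV]
      simp [Nat.card_eq_fintype_card, Fintype.card_subtype_compl]
    rw [hHcard, hcnt, mul_comm] at hinj
    exact hinj
  have hlm : P'.relIndex (normalizer (P' : Set D)) ≤ m := by
    have h1 : Nat.card (normalizer (P' : Set D)) ≤ Nat.card P' * m := by
      rw [hm, ← Nat.card_prod]
      have hex : ∀ w : normalizer (P' : Set D), ∃ t : P', ((t : D) : G)⁻¹ * ((w : D) : G) ∈ H ⊓ D := by
        intro w
        have hwN : ((w : D) : G) ∈ normalizer (P : Set G) := mem_nrm fun y hy => by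
          have h1 := (mem_normalizer_iff.1 w.2 ⟨y, hPD hy⟩).1 (mem_subgroupOf.2 hy)
          exact mem_subgroupOf.1 h1
        obtain ⟨t, ht, htH⟩ := hdec _ hwN
        exact ⟨⟨⟨t, hPD ht⟩, mem_subgroupOf.2 ht⟩,
          mem_inf.2 ⟨htH, mul_mem (inv_mem (hPD ht)) (w : D).2⟩⟩
      choose t ht using hex
      refine Nat.card_le_card_of_injective (fun w => (t w, (⟨_, ht w⟩ : ↥(H ⊓ D)))) fun x y hxy => ?_
      simp only [Prod.mk.injEq, Subtype.mk.injEq] at hxy
      obtain ⟨e1, e2⟩ := hxy
      rw [e1] at e2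
      exact Subtype.ext (Subtype.ext (mul_left_cancel e2))
    have h2 := relIndex_mul_relIndex ⊥ P' (normalizer (P' : Set D)) bot_le le_normalizer
    rw [relIndex_bot_left, relIndex_bot_left] at h2
    exact Nat.le_of_mul_le_mul_left (h2 ▸ h1) Nat.card_pos
  have hmk : m ≤ k + 1 := by
    by_contra hlt
    have h1 : k * (k + 2) ≤ k * m := Nat.mul_le_mul_left _ (by omega)
    have h2 : (k + 1) ^ 2 = k * (k + 2) + 1 := by ring
    omega
  have hnormal' : P'.Normal := hcc.normal_of_small (X := Ω)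
    (fun g hg => Subtype.ext (h.faith g hg)) hP'card
    (fun u hu b hb => Subtype.ext (hsemi u (mem_subgroupOf.1 hu) b hb)) h2t hn8
    (le_trans (le_trans (Nat.mul_le_mul hlm (show _ - 1 ≤ k by omega)) (le_of_eq (mul_comm m k)))
      (hkm.trans (by rw [hP'card])))
  -- normal in `G`
  have hPn : P.Normal := by
    refine ⟨fun w hw g => ?_⟩
    have hwD : g * w * g⁻¹ ∈ D := h.pair.normal.conj_mem w (hPD hw) g
    have h1 : (⟨g * w * g⁻¹, hwD⟩ : D) ^ P'.index ∈ P' := P'.pow_index_mem _
    obtain ⟨j, hj⟩ := hPpg ⟨w, hw⟩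
    have hwp : w ^ p ^ j = 1 := congrArg Subtype.val hj
    have hcop : P'.index.Coprime (p ^ j) := by
      refine Nat.Coprime.pow_right _ (Nat.Coprime.symm (h.prime.coprime_iff_not_dvd.2 fun hd => ?_))
      have h2 := P'.card_mul_index
      rw [hP'card, ← h.pair.card_eq a, hndef, Nat.mul_left_cancel_iff (by omega)] at h2
      exact h.not_dvd_stab (h2 ▸ hd)
    have h2 : (g * w * g⁻¹) ^ P'.index ∈ P := by
      have := mem_subgroupOf.1 h1
      simpa using this
    have h3 : (g * w * g⁻¹) ^ p ^ j = 1 := by rw [conj_pow, hwp]; group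
    obtain ⟨c, hc⟩ := exists_pow_eq_self_of_coprime (x := g * w * g⁻¹)
      (hcop.coprime_dvd_right (orderOf_dvd_of_pow_eq_one h3))
    rw [← hc]
    exact pow_mem h2 c
  have hHeq : stabilizer G a ≤ H := le_inf (normalizer_eq_top_iff.2 hPn ▸ le_top) le_rfl
  exact ⟨P, hPn, htr, hsemi, fun g hg => hfpf g (hHeq hg),
    fun W hW hWn => hirr (stabilizer G a) (h.pair.covers_stabilizer a) le_rfl W hW hWn, hk2⟩

end CfsgLib.DerangeIndex
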