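import Cfsg.Agent.Lib.Perm.DerangeIndex.Basic
import Cfsg.Agent.Lib.Coprime.Hyperplanes

/-!
A group `H` acting coprimely on an abelian `p`-group `V` such that the elements outside the normal
subgroup `H ∩ D` act without fixed points: tools, and the case of a normal non-cyclic elementary abelian
subgroup of `H ∩ D`.
-/

set_option autoImplicit false
set_option linter.unusedSectionVars false

open Subgroup

namespace CfsgLib.DerangeIndex

variable {G : Type*} [Group G] [Finite G]

/-- The module situation. -/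
structure Mod (D V H : Subgroup G) (p : ℕ) : Prop where
  normal : D.Normal
  prime : p.Prime
  pgroup : IsPGroup p V
  nontriv : V ≠ ⊥
  comm : ∀ x ∈ V, ∀ y ∈ V, x * y = y * x
  nrm : H ≤ normalizer (V : Set G)
  cop : ¬ p ∣ Nat.card ↥(H ⊓ D)
  faith : ∀ h ∈ H, (∀ v ∈ V, h * v = v * h) → h = 1
  fpf : ∀ h ∈ H, h ∉ D → ∀ v ∈ V, h * v = v * h → v = 1
  cov : Covers D H
  irr : ∀ K : Subgroup G, K ≤ H → Covers D K → ∀ W : Subgroup G, W ≤ V →
    (∀ k ∈ K, ∀ w ∈ W, k * w * k⁻¹ ∈ W) → W = ⊥ ∨ W = V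

/-- The fixed points of `B` in `V`. -/
def fix (V B : Subgroup G) : Subgroup G := V ⊓ centralizer (B : Set G)

theorem mem_fix {V B : Subgroup G} {v : G} : v ∈ fix V B ↔ v ∈ V ∧ ∀ b ∈ B, b * v = v * b :=
  mem_inf.trans (and_congr_right fun _ => mem_centralizer_iff)

theorem conj_mem_fix {V B : Subgroup G} {u : G} (huV : u ∈ normalizer (V : Set G))
    (huB : ∀ b ∈ B, u⁻¹ * b * u ∈ B) {v : G} (hv : v ∈ fix V B) : u * v * u⁻¹ ∈ fix V B := by
  refine mem_fix.2 ⟨(mem_normalizer_iff.1 huV v).1 (mem_fix.1 hv).1, fun b hb => ?_⟩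
  have h1 := (mem_fix.1 hv).2 _ (huB b hb)
  calc b * (u * v * u⁻¹) = u * ((u⁻¹ * b * u) * v) * u⁻¹ := by group
    _ = u * (v * (u⁻¹ * b * u)) * u⁻¹ := by rw [h1]
    _ = u * v * u⁻¹ * b := by group

theorem map_fix {V B : Subgroup G} {u : G} (huV : u ∈ normalizer (V : Set G)) :
    (fix V B).map (MulAut.conj u).toMonoidHom = fix V (B.map (MulAut.conj u).toMonoidHom) := by
  ext x
  constructor
  · rintro ⟨v, hv, rfl⟩
    refine mem_fix.2 ⟨(mem_normalizer_iff.1 huV v).1 (mem_fix.1 hv).1, ?_⟩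
    rintro _ ⟨b, hb, rfl⟩
    rw [← map_mul, ← map_mul, (mem_fix.1 hv).2 b hb]
  · intro hx
    obtain ⟨hxV, hxB⟩ := mem_fix.1 hx
    refine ⟨u⁻¹ * x * u, mem_fix.2 ⟨?_, fun b hb => ?_⟩, by simp [mul_assoc]⟩
    · simpa using (mem_normalizer_iff.1 (inv_mem huV) x).1 hxV
    · have h1 := hxB _ ⟨b, hb, rfl⟩
      simp only [MulEquiv.coe_toMonoidHom, MulAut.conj_apply] at h1
      calc b * (u⁻¹ * x * u) = u⁻¹ * (u * b * u⁻¹ * x) * u := by group
        _ = u⁻¹ * (x * (u * b * u⁻¹)) * u := by rw [h1]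
        _ = u⁻¹ * x * u * b := by group

variable {D V H : Subgroup G} {p : ℕ}

theorem Mod.isPGroup_inf (h : Mod D V H p) {B : Subgroup G} (hB : B ≤ H ⊓ D) : ¬ p ∣ Nat.card B :=
  fun hd => h.cop (hd.trans (card_dvd_of_le hB))

/-- A subgroup normalised by `H` has trivial fixed points, unless it is trivial. -/
theorem Mod.fix_eq_bot (h : Mod D V H p) {A : Subgroup G} (hA : A ≤ H) (hne : A ≠ ⊥)
    (hn : ∀ u ∈ H, ∀ x ∈ A, u⁻¹ * x * u ∈ A) : fix V A = ⊥ := by
  rcases h.irr H le_rfl h.cov (fix V A) inf_le_left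
    (fun u hu w hw => conj_mem_fix (h.nrm hu) (hn u hu) hw) with h1 | h1
  · exact h1
  · exact absurd ((eq_bot_iff_forall _).2 fun x hx => h.faith x (hA hx) fun v hv =>
      (mem_fix.1 (h1.ge hv)).2 x hx) hne

/-- Independence of fixed point subgroups. -/
theorem Mod.pow_card_le (h : Mod D V H p) {X : ℕ} (s : Finset (Subgroup G))
    (hs : ∀ B ∈ s, B ≤ H ⊓ D) (hX : ∀ B ∈ s, Nat.card (fix V B) = X)
    (hcomm : ∀ B ∈ s, ∀ B' ∈ s, ∀ b ∈ B, ∀ b' ∈ B', b * b' = b' * b)
    (hdisj : ∀ B ∈ s, ∀ B' ∈ s, B ≠ B' → fix V B ⊓ fix V B' = ⊥) :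
    X ^ s.card ≤ Nat.card V := by
  classical
  suffices key : ∀ t ⊆ s, Nat.card ↥(⨆ B ∈ t, fix V B : Subgroup G) = X ^ t.card by
    rw [← key s subset_rfl]
    exact card_le_of_le (iSup₂_le fun B _ => inf_le_left)
  intro t
  induction t using Finset.induction_on with
  | empty => intro _; simp
  | insert B₀ t hB₀ ih =>
    intro hts
    rw [Finset.insert_subset_iff] at hts
    rw [Finset.iSup_insert, Finset.card_insert_of_notMem hB₀, pow_succ', ← ih hts.2,
      ← hX B₀ hts.1]
    set T : Subgroup G := ⨆ B ∈ t, fix V B with hT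
    have hTV : T ≤ V := iSup₂_le fun B _ => inf_le_left
    have hinf : fix V B₀ ⊓ T = ⊥ := by
      letI : CommGroup V := { (inferInstance : Group V) with
        mul_comm := fun a b => Subtype.ext (h.comm a a.2 b b.2) }
      haveI := Fintype.ofFinite B₀
      let φ : V →* V :=
        { toFun := fun v => ∏ b : B₀, (⟨(b : G) * v * (b : G)⁻¹,
            (mem_normalizer_iff.1 (h.nrm (mem_inf.1 (hs B₀ hts.1 b.2)).1) v).1 v.2⟩ : V)
          map_one' := Finset.prod_eq_one fun b _ => Subtype.ext (by simp)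
          map_mul' := fun v w => by
            rw [← Finset.prod_mul_distrib]
            exact Finset.prod_congr rfl fun b _ => Subtype.ext (by simp [mul_assoc]) }
      have hker : ∀ B ∈ t, fix V B ≤ φ.ker.map V.subtype := by
        intro B hB w hw
        have hwV := (mem_fix.1 hw).1
        refine ⟨⟨w, hwV⟩, ?_, rfl⟩
        have hBne : B₀ ≠ B := fun e => hB₀ (e ▸ hB)
        have hmem : ((φ ⟨w, hwV⟩ : V) : G) ∈ fix V B₀ ⊓ fix V B := by
          refine mem_inf.2 ⟨mem_fix.2 ⟨(φ ⟨w, hwV⟩).2, fun c hc => ?_⟩,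
            mem_fix.2 ⟨(φ ⟨w, hwV⟩).2, fun c hc => ?_⟩⟩
          · have hcn := h.nrm (mem_inf.1 (hs B₀ hts.1 hc)).1
            let γ : V →* V :=
              { toFun := fun v => ⟨c * v * c⁻¹, (mem_normalizer_iff.1 hcn v).1 v.2⟩
                map_one' := Subtype.ext (by simp)
                map_mul' := fun v u => Subtype.ext (by simp [mul_assoc]) }
            have e1 : γ (φ ⟨w, hwV⟩) = φ ⟨w, hwV⟩ := by
              show γ (∏ b : B₀, _) = ∏ b : B₀, _
              rw [map_prod]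
              exact Fintype.prod_equiv (Equiv.mulLeft ⟨c, hc⟩) _ _
                fun b => Subtype.ext (by simp [γ, mul_assoc])
            have e2 : c * ((φ ⟨w, hwV⟩ : V) : G) * c⁻¹ = _ := congrArg Subtype.val e1
            exact mul_inv_eq_iff_eq_mul.1 e2
          · have hcn := h.nrm (mem_inf.1 (hs B (hts.2 hB) hc)).1
            let γ : V →* V :=
              { toFun := fun v => ⟨c * v * c⁻¹, (mem_normalizer_iff.1 hcn v).1 v.2⟩
                map_one' := Subtype.ext (by simp)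
                map_mul' := fun v u => Subtype.ext (by simp [mul_assoc]) }
            have e1 : γ (φ ⟨w, hwV⟩) = φ ⟨w, hwV⟩ := by
              show γ (∏ b : B₀, _) = ∏ b : B₀, _
              rw [map_prod]
              refine Finset.prod_congr rfl fun b _ => Subtype.ext ?_
              show c * ((b : G) * w * (b : G)⁻¹) * c⁻¹ = (b : G) * w * (b : G)⁻¹
              have h1 := hcomm B₀ hts.1 B (hts.2 hB) b b.2 c hc
              have h2 := (mem_fix.1 hw).2 c hc
              calc c * ((b : G) * w * (b : G)⁻¹) * c⁻¹ = c * b * w * (c * b)⁻¹ := by group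
                _ = b * (c * w) * (b * c)⁻¹ := by rw [← h1]; group
                _ = _ := by rw [h2]; group
            have e2 : c * ((φ ⟨w, hwV⟩ : V) : G) * c⁻¹ = _ := congrArg Subtype.val e1
            exact mul_inv_eq_iff_eq_mul.1 e2
        rw [hdisj B₀ hts.1 B (hts.2 hB) hBne, mem_bot] at hmem
        exact MonoidHom.mem_ker.2 (Subtype.ext hmem)
      refine (eq_bot_iff_forall _).2 fun x hx => ?_
      obtain ⟨hx0, hxT⟩ := mem_inf.1 hx
      have hxV := (mem_fix.1 hx0).1
      obtain ⟨x', hx', hxe⟩ := (iSup₂_le hker : T ≤ φ.ker.map V.subtype) hxT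
      have hval : φ ⟨x, hxV⟩ = (⟨x, hxV⟩ : V) ^ Fintype.card B₀ := by
        show ∏ b : B₀, _ = _
        rw [← Finset.card_univ, ← Finset.prod_const]
        refine Finset.prod_congr rfl fun b _ => Subtype.ext ?_
        show (b : G) * x * (b : G)⁻¹ = x
        rw [(mem_fix.1 hx0).2 b b.2, mul_inv_cancel_right]
      have hpow : (⟨x, hxV⟩ : V) ^ Fintype.card B₀ = 1 := by
        rw [← hval]
        have : x' = ⟨x, hxV⟩ := Subtype.ext hxe
        rw [← this]; exact hx'
      haveI := Fact.mk h.prime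
      obtain ⟨m, hm⟩ := h.pgroup ⟨x, hxV⟩
      have hco : (p ^ m).Coprime (Fintype.card B₀) := Nat.Coprime.pow_left m
        (h.prime.coprime_iff_not_dvd.2 (by
          rw [← Nat.card_eq_fintype_card]; exact h.isPGroup_inf (hs B₀ hts.1)))
      have h1 : orderOf (⟨x, hxV⟩ : V) = 1 :=
        Nat.eq_one_of_dvd_coprimes hco (orderOf_dvd_of_pow_eq_one hm) (orderOf_dvd_of_pow_eq_one hpow)
      exact congrArg Subtype.val (orderOf_eq_one_iff.1 h1)
    exact CfsgLib.CFun.ZLen.card_sup_eq (le_trans hTV (fun t ht => mem_nrm fun v hv => by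
      rw [h.comm t ht v (mem_fix.1 hv).1, mul_inv_cancel_right]; exact hv)) hinf

/-- An orbit count on `U`. -/
theorem Mod.orbit_bound (h : Mod D V H p) {U H₁ W : Subgroup G} (hU : U ≤ V) (hH₁ : H₁ ≤ H)
    (hn : ∀ u ∈ H₁, ∀ x ∈ U, u * x * u⁻¹ ∈ U) (hW : W ≤ H₁ ⊓ D) {v : G} (hv : v ∈ U) (hv1 : v ≠ 1) :
    D.relIndex H₁ * (centralizer ({v} : Set G)).relIndex W ≤ Nat.card U - 1 := by
  set C := centralizer ({v} : Set G)
  have hmem : ∀ {u : G}, u ∈ C ↔ u * v = v * u := fun {u} => mem_centralizer_singleton_iff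
  have hCD : C ⊓ H₁ ≤ D ⊓ H₁ := le_inf (fun u hu => by
    by_contra huD
    exact hv1 (h.fpf u (hH₁ hu.2) huD v (hU hv) (hmem.1 hu.1))) inf_le_right
  have h1 : C.relIndex H₁ = (C ⊓ H₁).relIndex (D ⊓ H₁) * D.relIndex H₁ := by
    rw [← inf_relIndex_right C H₁, ← inf_relIndex_right D H₁,
      relIndex_mul_relIndex _ _ _ hCD inf_le_right]
  have h2 : C.relIndex W ≤ (C ⊓ H₁).relIndex (D ⊓ H₁) := by
    refine le_trans (relIndex_le_of_le_right (L := D ⊓ H₁) (by rwa [inf_comm] at hW) ?_)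
      (relIndex_le_of_le_left inf_le_left ?_) <;> exact index_ne_zero_of_finite
  refine le_trans ((mul_comm _ _).trans_le (Nat.mul_le_mul_right _ h2) |>.trans h1.ge) ?_
  let f : H₁ ⧸ C.subgroupOf H₁ → {x : U // x ≠ 1} := fun c =>
    Quotient.liftOn' c (fun u => ⟨⟨(u : G) * v * (u : G)⁻¹, hn u u.2 v hv⟩, fun e => hv1 (by
      simpa using congrArg Subtype.val e)⟩) fun x y hxy => by
      rw [QuotientGroup.leftRel_apply, mem_subgroupOf, hmem] at hxy
      refine Subtype.ext (Subtype.ext ?_)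
      show (x : G) * v * (x : G)⁻¹ = (y : G) * v * (y : G)⁻¹
      rw [coe_mul, coe_inv] at hxy
      calc (x : G) * v * (x : G)⁻¹ = x * (v * ((x : G)⁻¹ * y)) * (y : G)⁻¹ := by group
        _ = x * ((x : G)⁻¹ * y * v) * (y : G)⁻¹ := by rw [hxy]
        _ = _ := by group
  have hf : Function.Injective f := by
    intro c c'
    induction c using QuotientGroup.induction_on with | _ x => ?_
    induction c' using QuotientGroup.induction_on with | _ y => ?_
    intro e
    have e' : (x : G) * v * (x : G)⁻¹ = (y : G) * v * (y : G)⁻¹ :=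
      congrArg (fun z : {x : U // x ≠ 1} => ((z : U) : G)) e
    refine QuotientGroup.eq.2 (mem_subgroupOf.2 (hmem.2 ?_))
    rw [coe_mul, coe_inv]
    calc (x : G)⁻¹ * y * v = (x : G)⁻¹ * ((y : G) * v * (y : G)⁻¹) * y := by group
      _ = (x : G)⁻¹ * ((x : G) * v * (x : G)⁻¹) * y := by rw [e']
      _ = _ := by group
  have h3 := Nat.card_le_card_of_injective f hf
  have h4 : Nat.card {x : U // x ≠ 1} = Nat.card U - 1 := by
    classical
    haveI := Fintype.ofFinite U
    simp [Nat.card_eq_fintype_card, Fintype.card_subtype_compl]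
  rw [h4] at h3
  rwa [relIndex, index_eq_card]

/-- The index of `D` is at most the number of classes of translates times a local index. -/
theorem Mod.index_le (h : Mod D V H p) {H₁ J : Subgroup G} (hH₁ : H₁ ≤ H) (hJ : J ≤ H)
    (hJle : ∀ u ∈ J, ∃ u₁ ∈ H₁, u₁⁻¹ * u ∈ D) : D.index ≤ J.relIndex H * D.relIndex H₁ := by
  haveI := h.normal
  rw [← h.cov.relIndex]
  set L := H₁ ⊔ (D ⊓ H) with hL
  have hJL : J ≤ L := fun u hu => by
    obtain ⟨u₁, hu₁, hd⟩ := hJle u hu
    rw [show u = u₁ * (u₁⁻¹ * u) by group]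
    exact mul_mem (mem_sup_left hu₁) (mem_sup_right (mem_inf.2 ⟨hd, mul_mem (inv_mem (hH₁ hu₁)) (hJ hu)⟩))
  have hLH : L ≤ H := sup_le hH₁ inf_le_right
  have h1 : D.relIndex L = D.relIndex H₁ := by
    have e1 : L ≤ H₁ ⊔ D := sup_le le_sup_left (inf_le_left.trans le_sup_right)
    refine le_antisymm ?_ (relIndex_le_of_le_right le_sup_left index_ne_zero_of_finite)
    calc D.relIndex L ≤ D.relIndex (H₁ ⊔ D) := relIndex_le_of_le_right e1 index_ne_zero_of_finite
      _ = _ := relIndex_sup_right H₁ D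
  calc D.relIndex H = D.relIndex L * L.relIndex H := by
        rw [← inf_relIndex_right D H, ← inf_relIndex_right D L, show D ⊓ H = D ⊓ L from
          le_antisymm (le_inf inf_le_left le_sup_right) (inf_le_inf_left _ hLH),
          relIndex_mul_relIndex _ _ _ inf_le_right hLH]
    _ ≤ D.relIndex H₁ * J.relIndex H := by
        rw [h1]
        exact Nat.mul_le_mul_left _ (relIndex_le_of_le_left hJL index_ne_zero_of_finite)
    _ = _ := mul_comm _ _

theorem sq_le_pow {X m : ℕ} (hX : 3 ≤ X) (hm : 2 ≤ m) : (m * (X - 1) + 2) ^ 2 ≤ 4 * X ^ m := by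
  induction m, hm using Nat.le_induction with
  | base =>
    rw [show 2 * (X - 1) + 2 = 2 * X by omega, mul_pow]
    norm_num
  | succ m hm ih =>
    have ha : 2 * (X - 1) ≤ m * (X - 1) + 2 := by
      have := Nat.mul_le_mul_right (X - 1) hm
      omega
    rw [pow_succ X m, show (m + 1) * (X - 1) + 2 = (m * (X - 1) + 2) + (X - 1) by ring]
    generalize m * (X - 1) + 2 = a at ha ih ⊢
    have h1 : 4 * (a + (X - 1)) ^ 2 ≤ 9 * a ^ 2 := by nlinarith
    have h2 : 3 * (4 * X ^ m) ≤ X * (4 * X ^ m) := Nat.mul_le_mul_right _ hX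
    nlinarith

/-- A normal non-cyclic elementary abelian subgroup of `H ∩ D` bounds the index. -/
theorem Mod.of_normal_elementary (h : Mod D V H p) {q : ℕ} [hq : Fact q.Prime] {A : Subgroup G}
    (hA : A ≤ H ⊓ D) (hAe : Cfsg.IsElementaryAbelian q A) (hA2 : q ^ 2 ≤ Nat.card A)
    (hn : ∀ u ∈ H, ∀ x ∈ A, u * x * u⁻¹ ∈ A) : (D.index + 1) ^ 2 ≤ Nat.card V := by
  classical
  haveI := Fact.mk h.prime
  have hAH : A ≤ H := hA.trans inf_le_left
  have hAne : A ≠ ⊥ := fun e => by
    rw [e, card_bot] at hA2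
    exact absurd hA2 (Nat.one_lt_pow two_ne_zero hq.out.one_lt).not_ge
  have hn' : ∀ u ∈ H, ∀ x ∈ A, u⁻¹ * x * u ∈ A := fun u hu x hx => by
    simpa using hn u⁻¹ (inv_mem hu) x hx
  have hfA : fix V A = ⊥ := h.fix_eq_bot hAH hAne hn'
  have hAq : IsPGroup q A := fun a => ⟨1, by rw [pow_one]; exact Subtype.ext (hAe.2 a a.2)⟩
  have hqp : q ≠ p := fun e => by
    subst e
    obtain ⟨j, hj⟩ := hAq.exists_card_eq
    refine h.isPGroup_inf hA (hj ▸ dvd_pow_self q fun e => ?_)
    rw [hj, e, pow_zero] at hA2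
    exact absurd hA2 (Nat.one_lt_pow two_ne_zero hq.out.one_lt).not_ge
  -- a hyperplane with fixed points
  obtain ⟨B, hBA, hBi, hBf⟩ : ∃ B, B ≤ A ∧ B.relIndex A = q ∧ fix V B ≠ ⊥ := by
    by_contra hcon
    push Not at hcon
    refine h.nontriv (le_bot_iff.1 (CfsgLib.Coprime.le_of_hyperplanes hAe hA2 ?_
      (hAH.trans h.nrm) fun E hE hEi => (hcon E hE hEi).le))
    intro hd
    obtain ⟨j, hj⟩ := h.pgroup.exists_card_eq
    rw [hj] at hd
    exact hqp ((Nat.prime_dvd_prime_iff_eq hq.out h.prime).1 (hq.out.dvd_of_dvd_pow hd))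
  obtain ⟨v, hv, hv1⟩ : ∃ v ∈ fix V B, v ≠ 1 := by
    by_contra hcon
    push Not at hcon
    exact hBf ((eq_bot_iff_forall _).2 hcon)
  have hcomA : ∀ x ∈ A, ∀ y ∈ A, x * y = y * x := fun x hx y hy =>
    congrArg Subtype.val (hAe.1.is_comm.comm (⟨x, hx⟩ : A) ⟨y, hy⟩)
  set H₁ := H ⊓ normalizer (B : Set G) with hH₁
  have hAH₁ : A ≤ H₁ := le_inf hAH fun x hx => mem_nrm fun b hb => by
    rw [hcomA x hx b (hBA hb), mul_inv_cancel_right]; exact hb
  have hbound := h.orbit_bound (U := fix V B) (H₁ := H₁) (W := A) inf_le_left inf_le_left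
    (fun u hu x hx => conj_mem_fix (h.nrm hu.1)
      (fun b hb => by simpa using (mem_normalizer_iff.1 (inv_mem hu.2) b).1 hb) hx)
    (le_inf hAH₁ (hA.trans inf_le_right)) hv hv1
  have hrel : (centralizer ({v} : Set G)).relIndex A = q := by
    have hle : B ≤ centralizer ({v} : Set G) := fun b hb =>
      mem_centralizer_singleton_iff.2 ((mem_fix.1 hv).2 b hb)
    have h1 := relIndex_mul_relIndex B (centralizer ({v} : Set G) ⊓ A) A
      (le_inf hle hBA) inf_le_right
    rw [hBi, inf_relIndex_right] at h1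
    rcases (Nat.dvd_prime hq.out).1 (Dvd.intro_left _ h1) with h2 | h2
    · refine absurd ?_ hv1
      have h3 := relIndex_eq_one.1 h2
      have : v ∈ fix V A := mem_fix.2 ⟨(mem_fix.1 hv).1, fun a ha =>
        mem_centralizer_singleton_iff.1 (h3 ha)⟩
      rwa [hfA, mem_bot] at this
    · exact h2
  rw [hrel] at hbound
  -- the orbit of `B`
  haveI := Fintype.ofFinite (H ⧸ H₁.subgroupOf H)
  let f : H ⧸ H₁.subgroupOf H → Subgroup G := fun c =>
    Quotient.liftOn' c (fun u => B.map (MulAut.conj (u : G)).toMonoidHom) fun x y hxy => by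
      rw [QuotientGroup.leftRel_apply, mem_subgroupOf] at hxy
      have h2 : (x : G)⁻¹ * y ∈ normalizer (B : Set G) := (mem_inf.1 hxy).2
      ext g
      simp only [mem_map, MulEquiv.coe_toMonoidHom, MulAut.conj_apply]
      constructor
      · rintro ⟨b, hb, rfl⟩
        refine ⟨((x : G)⁻¹ * y)⁻¹ * b * ((x : G)⁻¹ * y), ?_, by group⟩
        simpa using (mem_normalizer_iff.1 (inv_mem h2) b).1 hb
      · rintro ⟨b, hb, rfl⟩
        exact ⟨((x : G)⁻¹ * y) * b * ((x : G)⁻¹ * y)⁻¹, (mem_normalizer_iff.1 h2 b).1 hb, by group⟩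
  have hf : Function.Injective f := by
    intro c c'
    induction c using QuotientGroup.induction_on with | _ x => ?_
    induction c' using QuotientGroup.induction_on with | _ y => ?_
    intro e
    refine QuotientGroup.eq.2 (mem_subgroupOf.2 (mem_inf.2 ⟨?_, mem_nrm fun b hb => ?_⟩))
    · rw [coe_mul, coe_inv]; exact mul_mem (inv_mem x.2) y.2
    · have h2 : (y : G) * b * (y : G)⁻¹ ∈ B.map (MulAut.conj (x : G)).toMonoidHom := by
        rw [show B.map (MulAut.conj (x : G)).toMonoidHom = B.map (MulAut.conj (y : G)).toMonoidHom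
          from e]
        exact ⟨b, hb, rfl⟩
      obtain ⟨b', hb', he⟩ := h2
      simp only [MulEquiv.coe_toMonoidHom, MulAut.conj_apply] at he
      rw [coe_mul, coe_inv, show (x : G)⁻¹ * y * b * ((x : G)⁻¹ * y)⁻¹ =
        (x : G)⁻¹ * (y * b * (y : G)⁻¹) * x by group, ← he]
      simpa [mul_assoc] using hb'
  set s := Finset.univ.image f with hs
  have hscard : s.card = H₁.relIndex H := by
    rw [hs, Finset.card_image_of_injective _ hf, Finset.card_univ, relIndex, index_eq_card,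
      Nat.card_eq_fintype_card]
  have hmem : ∀ B' ∈ s, ∃ u ∈ H, B' = B.map (MulAut.conj u).toMonoidHom := by
    intro B' hB'
    obtain ⟨c, -, rfl⟩ := Finset.mem_image.1 hB'
    induction c using QuotientGroup.induction_on with | _ x => ?_
    exact ⟨x, x.2, rfl⟩
  have hsA : ∀ B' ∈ s, B' ≤ A ∧ B'.relIndex A = q := by
    intro B' hB'
    obtain ⟨u, hu, rfl⟩ := hmem B' hB'
    have hle : B.map (MulAut.conj u).toMonoidHom ≤ A := by
      rintro _ ⟨b, hb, rfl⟩
      exact hn u hu b (hBA hb)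
    refine ⟨hle, ?_⟩
    have h1 := relIndex_mul_relIndex ⊥ _ A bot_le hle
    have h2 := relIndex_mul_relIndex ⊥ B A bot_le hBA
    rw [relIndex_bot_left, relIndex_bot_left, card_map_of_injective (MulAut.conj u).injective] at h1
    rw [relIndex_bot_left, relIndex_bot_left, hBi] at h2
    exact Nat.eq_of_mul_eq_mul_left Nat.card_pos (h1.trans h2.symm)
  have hpow := h.pow_card_le (X := Nat.card (fix V B)) s (fun B' hB' => (hsA B' hB').1.trans hA)
    (fun B' hB' => by
      obtain ⟨u, hu, rfl⟩ := hmem B' hB'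
      rw [← map_fix (h.nrm hu), card_map_of_injective (MulAut.conj u).injective])
    (fun B₁ hB₁ B₂ hB₂ b hb b' hb' => hcomA b ((hsA B₁ hB₁).1 hb) b' ((hsA B₂ hB₂).1 hb'))
    fun B₁ hB₁ B₂ hB₂ hne => by
      obtain ⟨hle₁, hi₁⟩ := hsA B₁ hB₁
      obtain ⟨hle₂, hi₂⟩ := hsA B₂ hB₂
      have htop : B₁ ⊔ B₂ = A := by
        refine le_antisymm (sup_le hle₁ hle₂) ?_
        have h1 := relIndex_mul_relIndex B₁ (B₁ ⊔ B₂) A le_sup_left (sup_le hle₁ hle₂)
        rw [hi₁] at h1
        rcases (Nat.dvd_prime hq.out).1 (Dvd.intro_left _ h1) with h2 | h2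
        · exact relIndex_eq_one.1 h2
        · exfalso
          rw [h2] at h1
          have h3 : B₁.relIndex (B₁ ⊔ B₂) = 1 := Nat.eq_of_mul_eq_mul_right hq.out.pos
            (h1.trans (one_mul q).symm)
          have h4 : B₂ ≤ B₁ := le_sup_right.trans (relIndex_eq_one.1 h3)
          refine hne (eq_of_le_of_card_ge h4 ?_).symm
          have e1 := relIndex_mul_relIndex ⊥ B₁ A bot_le hle₁
          have e2 := relIndex_mul_relIndex ⊥ B₂ A bot_le hle₂
          rw [relIndex_bot_left, relIndex_bot_left, hi₁] at e1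
          rw [relIndex_bot_left, relIndex_bot_left, hi₂] at e2
          exact (Nat.eq_of_mul_eq_mul_right hq.out.pos (e1.trans e2.symm)).le
      refine le_bot_iff.1 (le_trans (le_inf (inf_le_left.trans inf_le_left) ?_) hfA.le)
      rw [le_centralizer_iff, ← htop]
      exact sup_le (le_centralizer_iff.1 (inf_le_left.trans inf_le_right))
        (le_centralizer_iff.1 (inf_le_right.trans inf_le_right))
  rw [hscard] at hpow
  have hidx := h.index_le (H₁ := H₁) (J := H₁) inf_le_left inf_le_left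
    fun u hu => ⟨u, hu, by simp⟩
  set m := H₁.relIndex H
  set X := Nat.card (fix V B)
  set k₁ := D.relIndex H₁
  have hm0 : m ≠ 0 := index_ne_zero_of_finite
  have hm : 2 ≤ m := by
    by_contra hlt
    have hm1 : m = 1 := by omega
    have hHle : H ≤ H₁ := relIndex_eq_one.1 hm1
    have := h.fix_eq_bot (A := B) (hBA.trans hAH) (fun e => hBf ?_) fun u hu x hx => by
      simpa using (mem_normalizer_iff.1 (inv_mem (hHle hu).2) x).1 hx
    · exact hBf this
    · have h1 := relIndex_bot_left A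
      rw [← e, hBi] at h1
      rw [← h1] at hA2
      exact absurd hA2 (by nlinarith [hq.out.two_le])
  have hk1 : 1 ≤ k₁ := Nat.pos_of_ne_zero index_ne_zero_of_finite
  have hk2 : k₁ * 2 ≤ X - 1 := le_trans (Nat.mul_le_mul_left _ hq.out.two_le) hbound
  have hX3 : 3 ≤ X := by omega
  have h1 : 2 * (D.index + 1) ≤ m * (X - 1) + 2 := by
    have : D.index * 2 ≤ m * (X - 1) := (Nat.mul_le_mul_right 2 hidx).trans
      (by rw [mul_assoc]; exact Nat.mul_le_mul_left _ hk2)
    omega
  have h2 := (Nat.pow_le_pow_left h1 2).trans (sq_le_pow hX3 hm)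
  rw [mul_pow] at h2
  exact le_trans (by omega) hpow

end CfsgLib.DerangeIndex
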