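import Cfsg.Agent.Lib.Perm.DerangeIndex.Ext

/-!
The centraliser of the cyclic maximal normal abelian subgroup is larger: the index is small compared
with a function of the dimension.
-/

set_option autoImplicit false
set_option linter.unusedSectionVars false

open Subgroup

namespace CfsgLib.DerangeIndex

variable {G : Type*} [Group G] [Finite G] {D V H Q C E : Subgroup G} {p q : ℕ} {z : G}

theorem Loc.eq_one_or (h : Loc D V H p q Q C z) (hq2 : q = 2) {x : G} (hx : x ∈ zpowers z) :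
    x = 1 ∨ x = z := by
  obtain ⟨i, rfl⟩ := mem_zpowers_iff.1 hx
  have h2 : z ^ (2 : ℕ) = 1 := by rw [← hq2, ← h.zord]; exact pow_orderOf_eq_one z
  rcases Int.even_or_odd i with ⟨j, rfl⟩ | ⟨j, rfl⟩
  · left
    rw [← two_mul, zpow_mul, show z ^ (2 : ℤ) = 1 from (zpow_natCast z 2).trans h2, one_zpow]
  · right
    rw [zpow_add, zpow_one, zpow_mul, show z ^ (2 : ℤ) = 1 from (zpow_natCast z 2).trans h2, one_zpow,
      one_mul]

/-- Either the `q`-th power is a homomorphism modulo `q`-th powers of `C`, or `q = 2` and `C = ⟨z⟩`. -/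
theorem Loc.good_or (h : Loc D V H p q Q C z) :
    (q ≠ 2 ∨ ∃ c ∈ C, c * c = z) ∨ (q = 2 ∧ ∀ c ∈ C, c = 1 ∨ c = z) := by
  rcases eq_or_ne q 2 with hq | hq
  · by_cases hc : ∃ c ∈ C, c * c = z
    · exact Or.inl (Or.inr hc)
    · refine Or.inr ⟨hq, fun c hcC => ?_⟩
      haveI := Fact.mk h.qprime
      obtain ⟨m, hm⟩ := (h.Qpg.to_le h.CQ) ⟨c, hcC⟩
      obtain ⟨a, -, ha⟩ := (Nat.dvd_prime_pow h.qprime).1
        (orderOf_dvd_of_pow_eq_one (congrArg Subtype.val hm : c ^ q ^ m = 1))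
      rcases Nat.lt_or_ge a 2 with hlt | hge
      · refine h.eq_one_or hq (h.zuniq c hcC (orderOf_dvd_iff_pow_eq_one.1 ?_))
        rw [ha]
        calc q ^ a ∣ q ^ 1 := pow_dvd_pow q (by omega)
          _ = q := pow_one q
      · exfalso
        refine hc ⟨c ^ q ^ (a - 2), pow_mem hcC _, ?_⟩
        have hne : c ^ q ^ (a - 1) ≠ 1 := fun e => by
          have h1 := Nat.le_of_dvd (pow_pos h.qprime.pos _) (ha ▸ orderOf_dvd_of_pow_eq_one e)
          have := (Nat.pow_le_pow_iff_right h.qprime.one_lt).1 h1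
          omega
        have he : c ^ q ^ (a - 2) * c ^ q ^ (a - 2) = c ^ q ^ (a - 1) := by
          rw [← pow_add, show a - 1 = (a - 2) + 1 by omega, pow_succ, hq]
          congr 1
          omega
        rw [he]
        have hmem : c ^ q ^ (a - 1) ∈ zpowers z := h.zuniq _ (pow_mem hcC _) (by
          rw [← pow_mul, ← pow_succ, show a - 1 + 1 = a by omega, ← ha, pow_orderOf_eq_one])
        exact (h.eq_one_or hq hmem).resolve_left hne
  · exact Or.inl (Or.inl hq)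

theorem Ext.pow_mul (hE : Ext H Q C q z E) (h : Loc D V H p q Q C z)
    (hg : q ≠ 2 ∨ ∃ c ∈ C, c * c = z) {x y : G} (hx : x ∈ E) (hy : y ∈ E) :
    ∃ c ∈ C, (x * y) ^ q = x ^ q * y ^ q * c ^ q := by
  set δ := x⁻¹ * y * x * y⁻¹ with hδ
  have hδz : δ ∈ zpowers z := by
    have := hE.com x⁻¹ (inv_mem hx) y hy
    rwa [inv_inv] at this
  have hδC : δ ∈ C := zpowers_le.2 h.zC hδz
  have hcomm : ∀ u ∈ E, Commute δ u := fun u hu => (hE.cent u hu δ hδC).symm
  have hz : z ^ q = 1 := h.zord ▸ pow_orderOf_eq_one z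
  have hexp := mul_pow_of_comm (c := δ) (x := x) (y := y) (by rw [hδ]; group) (hcomm x hx) (hcomm y hy) q
  have hδq : δ ^ q = 1 := by
    obtain ⟨i, hi⟩ := mem_zpowers_iff.1 hδz
    rw [← hi, ← zpow_natCast, ← zpow_mul, mul_comm, zpow_mul, zpow_natCast, hz, one_zpow]
  have key : ∃ c ∈ C, δ ^ q.choose 2 = c ^ q := by
    rcases hg with hq | ⟨c, hc, hcz⟩
    · refine ⟨1, one_mem C, ?_⟩
      have hd : q ∣ q.choose 2 := h.qprime.dvd_choose_self two_ne_zero
        (lt_of_le_of_ne h.qprime.two_le (Ne.symm hq))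
      obtain ⟨m, hm⟩ := hd
      rw [hm, one_pow, _root_.pow_mul, hδq, one_pow]
    · rcases eq_or_ne q 2 with hq | hq
      · rw [hq, Nat.choose_self, pow_one]
        rcases h.eq_one_or hq hδz with e | e
        · exact ⟨1, one_mem C, by rw [e, one_pow]⟩
        · exact ⟨c, hc, by rw [e, pow_two, hcz]⟩
      · obtain ⟨m, hm⟩ := h.qprime.dvd_choose_self two_ne_zero
          (lt_of_le_of_ne h.qprime.two_le (Ne.symm hq))
        exact ⟨1, one_mem C, by rw [hm, one_pow, _root_.pow_mul, hδq, one_pow]⟩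
  obtain ⟨c, hc, hcq⟩ := key
  refine ⟨c, hc, ?_⟩
  rw [hexp, hcq, mul_assoc, ← (hE.cent (y ^ q) (pow_mem hy q) _ (pow_mem hc q)).eq, ← mul_assoc]

/-- In the good case a subgroup containing the elements of order `q` has index at most `q`. -/
theorem Ext.exists_pow_mem (hE : Ext H Q C q z E) (h : Loc D V H p q Q C z)
    (hg : q ≠ 2 ∨ ∃ c ∈ C, c * c = z) {W K : Subgroup G} (hW : W ≤ E) (hCK : C ≤ K) (hKW : K ≤ W)
    (hroot : ∀ u ∈ W, u ^ q = 1 → u ∈ K) {x y : G} (hx : x ∈ W) (hxK : x ∉ K) (hy : y ∈ W) :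
    ∃ i, i < q ∧ (x ^ i)⁻¹ * y ∈ K := by
  haveI := Fact.mk h.qprime
  obtain ⟨c₀, hc₀, hC⟩ := h.Ccyc
  -- a `q`-th power of `C` has a root in `K`
  have hlift : ∀ u ∈ W, ∀ c ∈ C, u ^ q = c ^ q → u ∈ K := fun u hu c hc e => by
    have h1 : (u * c⁻¹) ^ q = 1 := by
      rw [(hE.cent u (hW hu) _ (inv_mem hc)).mul_pow, e, inv_pow, mul_inv_cancel]
    have h2 := hroot _ (mul_mem hu (inv_mem (hKW (hCK hc)))) h1
    simpa using mul_mem h2 (hCK hc)
  have hxq := hE.pow x (hW hx)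
  have hyq := hE.pow y (hW hy)
  rw [hC] at hxq hyq
  obtain ⟨a, ha⟩ := mem_zpowers_iff.1 hxq
  obtain ⟨b, hb⟩ := mem_zpowers_iff.1 hyq
  have ha0 : (a : ZMod q) ≠ 0 := fun e => by
    obtain ⟨m, hm⟩ := (ZMod.intCast_zmod_eq_zero_iff_dvd a q).1 e
    refine hxK (hlift x hx _ (zpow_mem hc₀ m) ?_)
    rw [← ha, hm, ← zpow_natCast (c₀ ^ m), ← zpow_mul, mul_comm]
  set i : ℕ := ((b : ZMod q) / (a : ZMod q)).val with hi
  refine ⟨i, ZMod.val_lt _, ?_⟩
  obtain ⟨m, hm⟩ : (q : ℤ) ∣ b - a * i := by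
    rw [← ZMod.intCast_zmod_eq_zero_iff_dvd]
    push_cast
    rw [hi, ZMod.natCast_zmod_val, mul_div_cancel₀ _ ha0, sub_self]
  set u := (x ^ i)⁻¹ * y with hu
  have huW : u ∈ W := mul_mem (inv_mem (pow_mem hx i)) hy
  obtain ⟨c, hc, hcq⟩ := hE.pow_mul h hg (pow_mem (hW hx) i) (hW huW)
  rw [hu, mul_inv_cancel_left, ← hb, ← _root_.pow_mul, mul_comm i q, _root_.pow_mul, ← ha,
    ← zpow_natCast (c₀ ^ a), ← zpow_mul, ← hu] at hcq
  refine hlift u huW (c₀ ^ m * c⁻¹) (mul_mem (zpow_mem hc₀ m) (inv_mem hc)) ?_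
  have h1 : Commute (c₀ ^ m) c⁻¹ := by
    rw [hC] at hc
    obtain ⟨j, rfl⟩ := mem_zpowers_iff.1 hc
    exact (Commute.zpow_zpow_self c₀ m j).inv_right
  have h2 : u ^ q = (c₀ ^ (a * i))⁻¹ * c₀ ^ b * (c ^ q)⁻¹ := by rw [hcq]; group
  rw [h2, h1.mul_pow, inv_pow, ← zpow_natCast (c₀ ^ m), ← zpow_mul, ← zpow_neg, ← zpow_add,
    show -(a * (i : ℤ)) + b = m * q by rw [mul_comm m, ← hm]; ring]

/-- The case without non-cyclic elementary abelian subgroups. -/
theorem Ext.false_of_small (hE : Ext H Q C q z E) (h : Loc D V H p q Q C z)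
    (hsmall : ∀ x ∈ E, x ^ q = 1 → x ∈ zpowers z) : False := by
  haveI := Fact.mk h.qprime
  rcases h.good_or with hg | ⟨hq, hC2⟩
  · refine hE.nontriv fun x hx => hE.center x hx fun y hy => ?_
    by_contra hxy
    have hxC : x ∉ C := fun hc => hxy ((hE.cent y hy x hc).symm)
    obtain ⟨i, -, hi⟩ := hE.exists_pow_mem h hg le_rfl le_rfl hE.Cle
      (fun u hu e => zpowers_le.2 h.zC (hsmall u hu e)) hx hxC hy
    refine hxy ?_
    have h1 := (Commute.refl x).pow_right i |>.mul_right (hE.cent x hx _ hi)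
    rwa [mul_inv_cancel_left] at h1
  · obtain ⟨y, hyQ, hy1, v, hv, hv1, hyv⟩ := h.nonfpf
    obtain ⟨y, hyQ, hyo, hyC, -⟩ := h.ne_top_of_fixed
    have hQH : Q ≤ H := h.Qle.trans inf_le_left
    have hz1 : z ≠ 1 := fun e => by
      have h1 := h.zord
      rw [e, orderOf_one] at h1
      exact h.qprime.ne_one h1.symm
    have hcen : ∀ x ∈ Q, ∀ c ∈ C, x * c = c * x := by
      intro x hx c hc
      have h1 := h.Cn x (hQH hx) c hc
      rcases hC2 c hc with rfl | rfl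
      · simp
      · rcases hC2 _ h1 with e | e
        · refine absurd ?_ hz1
          rw [mul_inv_eq_one, mul_eq_left] at e
          exact e
        · exact mul_inv_eq_iff_eq_mul.1 e
    -- an element of `E` inducing the same automorphism as `y`
    obtain ⟨e, he, hee⟩ := (hE.pairing h le_rfl).2 (fun s => y * s * y⁻¹ * s⁻¹)
      (fun s hs => by
        have h1 := hE.sub y hyQ (hcen y hyQ) s hs
        rcases hC2 _ h1 with e | e
        · rw [show y * s * y⁻¹ * s⁻¹ = (s * y * s⁻¹ * y⁻¹)⁻¹ by group, e, inv_one]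
          exact one_mem _
        · rw [show y * s * y⁻¹ * s⁻¹ = (s * y * s⁻¹ * y⁻¹)⁻¹ by group, e]
          exact inv_mem (mem_zpowers z))
      (fun s hs t ht => by
        have hc : y * t * y⁻¹ * t⁻¹ ∈ C := by
          rw [show y * t * y⁻¹ * t⁻¹ = (t * y * t⁻¹ * y⁻¹)⁻¹ by group]
          exact inv_mem (hE.sub y hyQ (hcen y hyQ) t ht)
        calc y * (s * t) * y⁻¹ * (s * t)⁻¹ = y * s * y⁻¹ * ((y * t * y⁻¹ * t⁻¹) * s⁻¹) := by group
          _ = y * s * y⁻¹ * (s⁻¹ * (y * t * y⁻¹ * t⁻¹)) := by rw [((hE.cent s hs _ hc).inv_left).eq]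
          _ = _ := by group)
      (fun s _ hsC => by rw [hcen y hyQ s hsC]; group)
    -- the centraliser of `E` is `C`
    set y' := e⁻¹ * y with hy'
    set N := Q ⊓ centralizer (E : Set G) with hN
    have hNC : N ≤ C := by
      by_contra hcon
      refine hE.trap N inf_le_left (fun x hx c hc => hcen x hx.1 c hc)
        (fun c hc => mem_inf.2 ⟨h.CQ hc, mem_centralizer_iff.2 fun x hx => hE.cent x hx c hc⟩)
        (fun u hu x hx => mem_inf.2 ⟨h.Qn u hu x hx.1, mem_centralizer_iff.2 fun s hs => ?_⟩) hcon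
        fun x hx => hE.center x hx.2 fun s hs => (mem_centralizer_iff.1 hx.1.2 s hs).symm
      have h1 : u⁻¹ * s * u ∈ E := by simpa using hE.norm u⁻¹ (inv_mem hu) s hs
      calc s * (u * x * u⁻¹) = u * ((u⁻¹ * s * u) * x) * u⁻¹ := by group
        _ = u * (x * (u⁻¹ * s * u)) * u⁻¹ := by rw [mem_centralizer_iff.1 hx.2 _ h1]
        _ = u * x * u⁻¹ * s := by group
    have hy'N : y' ∈ N := mem_inf.2 ⟨mul_mem (inv_mem (hE.le he)) hyQ,
      mem_centralizer_iff.2 fun s hs => by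
        have h1 := hee s hs
        rw [inv_mul_cancel_right] at h1
        rw [hy']
        calc s * (e⁻¹ * y) = e⁻¹ * (e * s * e⁻¹) * y := by group
          _ = e⁻¹ * (y * s * y⁻¹) * y := by rw [h1]
          _ = _ := by group⟩
    have hyE : y ∈ E := by
      rw [show y = e * y' by rw [hy']; group]
      exact mul_mem he (hE.Cle (hNC hy'N))
    exact hyC (zpowers_le.2 h.zC (hsmall y hyE (hyo ▸ pow_orderOf_eq_one y)))

end CfsgLib.DerangeIndex
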