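import Cfsg.Agent.Lib.Perm.DerangeIndex.Basic

/-!
A pair whose index exceeds `√n - 1` has prime power degree `p ^ e`, `D` has a regular Sylow `p`-subgroup,
and no proper non-trivial subgroup of it is invariant under a covering subgroup of a point stabiliser.
-/

set_option autoImplicit false
set_option linter.unusedSectionVars false

open MulAction Subgroup

namespace CfsgLib.DerangeIndex

variable {G Ω : Type*} [Group G] [Finite G] [MulAction G Ω] [Finite Ω]

theorem Pair.hard {D : Subgroup G} (h : Pair G Ω D) (a : Ω) (hn : 4 ≤ Nat.card Ω)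
    (hbig : Nat.card Ω < (D.index + 1) ^ 2) :
    ∃ p e : ℕ, p.Prime ∧ 0 < e ∧ Nat.card Ω = p ^ e ∧
      ∀ s, 0 < s → D.index ∣ p ^ s - 1 → e ≤ s := by
  set n := Nat.card Ω with hndef
  set k := D.index with hkdef
  have hk2 : 2 ≤ k := by
    by_contra hlt
    have : (k + 1) ^ 2 ≤ 4 := (Nat.pow_le_pow_left (show k + 1 ≤ 2 by omega) 2).trans (by norm_num)
    omega
  obtain ⟨p, hp, hpn⟩ := Nat.exists_prime_and_dvd (show n ≠ 1 by omega)
  haveI := Fact.mk hp
  have huniq : ∀ r : ℕ, r.Prime → r ∣ n → r = p := by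
    intro r hr hrn
    by_contra hne
    haveI := Fact.mk hr
    obtain ⟨Q₁⟩ : Nonempty (Sylow p ↥(D ⊓ stabilizer G a)) := inferInstance
    obtain ⟨Q₂⟩ : Nonempty (Sylow r ↥(D ⊓ stabilizer G a)) := inferInstance
    obtain ⟨s, hs, hsn, hsk, -⟩ := h.qpart a hpn Q₁
    obtain ⟨t, ht, htn, htk, -⟩ := h.qpart a hrn Q₂
    have h1 : p ^ s * r ^ t ∣ n :=
      (Nat.Coprime.pow s t ((Nat.coprime_primes hp hr).2 (Ne.symm hne))).mul_dvd_of_dvd_of_dvd hsn htn
    have h2 : 1 < p ^ s := Nat.one_lt_pow hs.ne' hp.one_lt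
    have h3 : 1 < r ^ t := Nat.one_lt_pow ht.ne' hr.one_lt
    have h4 := Nat.le_of_dvd (by omega) hsk
    have h5 := Nat.le_of_dvd (by omega) htk
    have h6 := Nat.le_of_dvd (by omega) h1
    have h7 : (k + 1) * (k + 1) ≤ p ^ s * r ^ t := Nat.mul_le_mul (by omega) (by omega)
    rw [← pow_two] at h7
    omega
  obtain ⟨e, he, hne⟩ : ∃ e, 0 < e ∧ n = p ^ e := by
    refine ⟨n.primeFactorsList.length, ?_, Nat.eq_prime_pow_of_unique_prime_dvd (by omega)
      fun {d} hd hdn => huniq d hd hdn⟩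
    refine Nat.pos_of_ne_zero fun h0 => ?_
    have h1 := Nat.eq_prime_pow_of_unique_prime_dvd (n := n) (p := p) (by omega)
      (fun {d} hd hdn => huniq d hd hdn)
    rw [h0, pow_zero] at h1
    omega
  refine ⟨p, e, hp, he, hne, fun s hs hsk => ?_⟩
  by_contra hlt
  have hgd : k ∣ p ^ Nat.gcd s e - 1 := by
    rw [← Nat.pow_sub_one_gcd_pow_sub_one]
    refine Nat.dvd_gcd hsk ?_
    rw [← hne]
    exact h.index_dvd a
  have hge : Nat.gcd s e * 2 ≤ e := by
    obtain ⟨c, hc⟩ := Nat.gcd_dvd_right s e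
    have hgs := Nat.gcd_le_left e hs
    have : c ≠ 1 := fun e' => by rw [e', mul_one] at hc; omega
    have : c ≠ 0 := fun e' => by rw [e', mul_zero] at hc; omega
    have := Nat.mul_le_mul_left (Nat.gcd s e) (show 2 ≤ c by omega)
    omega
  have h1 : 1 < p ^ Nat.gcd s e :=
    Nat.one_lt_pow (Nat.gcd_pos_of_pos_left e hs).ne' hp.one_lt
  have h2 := Nat.le_of_dvd (by omega) hgd
  have h3 : (k + 1) ^ 2 ≤ p ^ e := by
    refine (Nat.pow_le_pow_left (show k + 1 ≤ p ^ Nat.gcd s e by omega) 2).trans ?_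
    rw [← pow_mul]
    exact Nat.pow_le_pow_right hp.pos hge
  omega

/-- The situation left after the congruences. -/
structure Red (G Ω : Type*) [Group G] [MulAction G Ω] (D : Subgroup G) (a : Ω) (p e : ℕ) : Prop where
  pair : Pair G Ω D
  faith : ∀ g : G, (∀ b : Ω, g • b = b) → g = 1
  prime : p.Prime
  epos : 0 < e
  card : Nat.card Ω = p ^ e
  ord : ∀ s, 0 < s → D.index ∣ p ^ s - 1 → e ≤ s

variable {D : Subgroup G} {a : Ω} {p e : ℕ}

theorem Red.not_dvd_stab (h : Red G Ω D a p e) : ¬ p ∣ Nat.card ↥(D ⊓ stabilizer G a) := by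
  haveI := Fact.mk h.prime
  intro hd
  obtain ⟨Q₀⟩ : Nonempty (Sylow p ↥(D ⊓ stabilizer G a)) := inferInstance
  obtain ⟨s, hs, hsn, hsk, hso⟩ := h.pair.qpart a (h.card ▸ dvd_pow_self p h.epos.ne') Q₀
  have h1 : Nat.card Ω ≤ p ^ s := by
    rw [h.card]; exact Nat.pow_le_pow_right h.prime.pos (h.ord s hs hsk)
  set Z := (Q₀ : Subgroup ↥(D ⊓ stabilizer G a)).map (D ⊓ stabilizer G a).subtype with hZ
  have huniv : MulAction.orbit ↥(normalizer (Z : Set G)) a = Set.univ := by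
    refine Set.eq_of_subset_of_ncard_le (Set.subset_univ _) ?_ (Set.toFinite _)
    rw [Set.ncard_univ]
    exact h1.trans hso
  have hbot : Z = ⊥ := (eq_bot_iff_forall _).2 fun z hz => h.faith z fun b => by
    obtain ⟨⟨y, hy⟩, rfl⟩ : b ∈ MulAction.orbit ↥(normalizer (Z : Set G)) a := huniv ▸ Set.mem_univ b
    have h2 : y⁻¹ * z * y ∈ Z := by simpa using (mem_normalizer_iff.1 (inv_mem hy) z).1 hz
    have h3 : (y⁻¹ * z * y) • a = a := (mem_inf.1 (map_subtype_le _ h2)).2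
    show z • y • a = y • a
    rwa [mul_smul, mul_smul, inv_smul_eq_iff] at h3
  have hcard : Nat.card Z = p ^ (Nat.card ↥(D ⊓ stabilizer G a)).factorization p := by
    rw [hZ, card_map_of_injective (D ⊓ stabilizer G a).subtype_injective, Q₀.card_eq_multiplicity]
  rw [hbot, card_bot] at hcard
  have := h.prime.factorization_pos_of_dvd Nat.card_pos.ne' hd
  exact absurd hcard.symm (Nat.one_lt_pow this.ne' h.prime.one_lt).ne'

/-- The regular Sylow subgroup of `D`. -/
theorem Red.exists_regular (h : Red G Ω D a p e) :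
    ∃ P : Subgroup G, P ≤ D ∧ IsPGroup p P ∧ Nat.card P = p ^ e ∧
      (∀ u ∈ P, ∀ b : Ω, u • b = b → u = 1) ∧ (∀ b c : Ω, ∃ u ∈ P, u • b = c) ∧
      Covers D (normalizer (P : Set G) ⊓ stabilizer G a) ∧
      (∀ x ∈ P, ∀ y ∈ P, x * y = y * x) ∧
      (∀ K : Subgroup G, Covers D K → K ≤ stabilizer G a → ∀ W : Subgroup G, W ≤ P →
        (∀ k ∈ K, ∀ w ∈ W, k * w * k⁻¹ ∈ W) → W = ⊥ ∨ W = P) := by
  haveI := Fact.mk h.prime
  haveI := h.pair.normal
  obtain ⟨PS⟩ : Nonempty (Sylow p D) := inferInstance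
  set P := (PS : Subgroup D).map D.subtype with hP
  have hPD : P ≤ D := map_subtype_le _
  have hpg : IsPGroup p P := PS.2.map _
  have hfac : (Nat.card D).factorization p = e := by
    rw [← h.pair.card_eq a, Nat.factorization_mul (by rw [h.card]; exact pow_ne_zero _ h.prime.ne_zero)
      Nat.card_pos.ne', Finsupp.add_apply, h.card, h.prime.factorization_pow, Finsupp.single_eq_same,
      Nat.factorization_eq_zero_of_not_dvd h.not_dvd_stab, add_zero]
  have hcard : Nat.card P = p ^ e := by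
    rw [hP, card_map_of_injective D.subtype_injective, PS.card_eq_multiplicity, hfac]
  have hsemi : ∀ u ∈ P, ∀ b : Ω, u • b = b → u = 1 := by
    intro u hu b hb
    obtain ⟨d, hd, rfl⟩ := h.pair.trans a b
    have hu' : d⁻¹ * u * d ∈ D ⊓ stabilizer G a := mem_inf.2
      ⟨mul_mem (mul_mem (inv_mem hd) (hPD hu)) hd, by
        rw [mem_stabilizer_iff, mul_smul, mul_smul, hb, inv_smul_smul]⟩
    obtain ⟨m, hm⟩ := hpg ⟨u, hu⟩
    have hm' : u ^ p ^ m = 1 := congrArg Subtype.val hm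
    have h1 : orderOf (d⁻¹ * u * d) ∣ p ^ m := orderOf_dvd_of_pow_eq_one (by
      rw [show d⁻¹ * u * d = d⁻¹ * u * (d⁻¹)⁻¹ by group, conj_pow, hm']; group)
    obtain ⟨i, -, hi⟩ := (Nat.dvd_prime_pow h.prime).1 h1
    have h2 : orderOf (d⁻¹ * u * d) ∣ Nat.card ↥(D ⊓ stabilizer G a) :=
      Subgroup.orderOf_dvd_natCard _ hu'
    have hi0 : i = 0 := by
      by_contra hi0
      exact h.not_dvd_stab ((dvd_pow_self p hi0).trans (hi ▸ h2))
    rw [hi0, pow_zero, orderOf_eq_one_iff] at hi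
    calc u = d * (d⁻¹ * u * d) * d⁻¹ := by group
      _ = 1 := by rw [hi]; group
  have horb : ∀ (W : Subgroup G), W ≤ P → ∀ b : Ω, (MulAction.orbit W b).ncard = Nat.card W := by
    intro W hW b
    rw [← Nat.card_coe_set_eq]
    refine (Nat.card_eq_of_bijective (fun w : W => (⟨(w : G) • b, w, rfl⟩ : MulAction.orbit W b))
      ⟨fun w w' e => ?_, fun ⟨c, w, hw⟩ => ⟨w, Subtype.ext hw⟩⟩).symm
    have e' : (w : G) • b = (w' : G) • b := congrArg Subtype.val e
    exact Subtype.ext (inv_mul_eq_one.1 (hsemi _ (mul_mem (inv_mem (hW w.2)) (hW w'.2)) b (by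
      rw [mul_smul, ← e', inv_smul_smul])))
  have htr : ∀ b c : Ω, ∃ u ∈ P, u • b = c := by
    intro b c
    have : MulAction.orbit P b = Set.univ := Set.eq_of_subset_of_ncard_le (Set.subset_univ _)
      (by rw [Set.ncard_univ, h.card, horb P le_rfl b, hcard]) (Set.toFinite _)
    obtain ⟨⟨u, hu⟩, he⟩ : c ∈ MulAction.orbit P b := this ▸ Set.mem_univ c
    exact ⟨u, hu, he⟩
  have hcov : Covers D (normalizer (P : Set G) ⊓ stabilizer G a) := by
    intro g
    have htop : Covers D (⊤ : Subgroup G) := fun g => ⟨g, mem_top g, by simp⟩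
    obtain ⟨x, hx, hxg⟩ := htop.normalizer_sylow (N := D) le_rfl le_top
      (fun k _ d hd => h.pair.normal.conj_mem d hd k) PS g
    obtain ⟨u, hu, he⟩ := htr a (x • a)
    refine ⟨u⁻¹ * x, mem_inf.2 ⟨mul_mem (inv_mem (le_normalizer hu)) hx.2, ?_⟩, ?_⟩
    · rw [mem_stabilizer_iff, mul_smul, ← he, inv_smul_smul]
    · rw [show (u⁻¹ * x)⁻¹ * g = (x⁻¹ * u * x⁻¹⁻¹) * (x⁻¹ * g) by group]
      exact mul_mem (h.pair.normal.conj_mem u (hPD hu) x⁻¹) hxg
  have hirr : ∀ K : Subgroup G, Covers D K → K ≤ stabilizer G a → ∀ W : Subgroup G, W ≤ P →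
      (∀ k ∈ K, ∀ w ∈ W, k * w * k⁻¹ ∈ W) → W = ⊥ ∨ W = P := by
    intro K hK hKa W hW hn
    have h1 := h.pair.dvd_ncard_sub_one (K := K) (fun k hk => hKa hk) (MulAction.mem_orbit_self a)
      (S := MulAction.orbit W a) (by
        rintro k hk _ ⟨⟨w, hw⟩, rfl⟩
        refine ⟨⟨_, hn k hk w hw⟩, ?_⟩
        show (k * w * k⁻¹) • a = k • w • a
        rw [mul_smul, mul_smul, inv_smul_eq_iff.2 (hKa hk).symm])
    rw [hK.relIndex, horb W hW a] at h1
    obtain ⟨s, hs⟩ := (hpg.to_le hW).exists_card_eq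
    rw [hs] at h1
    rcases Nat.eq_zero_or_pos s with rfl | hs0
    · exact Or.inl (eq_bot_of_card_eq W (by rw [hs, pow_zero]))
    · refine Or.inr (eq_of_le_of_card_ge hW ?_)
      rw [hs, hcard]
      exact Nat.pow_le_pow_right h.prime.pos (h.ord s hs0 h1)
  refine ⟨P, hPD, hpg, hcard, hsemi, htr, hcov, ?_, hirr⟩
  -- the centre is everything
  haveI : Nontrivial P := by
    rw [← Finite.one_lt_card_iff_nontrivial, hcard]
    exact Nat.one_lt_pow h.epos.ne' h.prime.one_lt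
  rcases hirr _ hcov inf_le_right ((center P).map P.subtype) (map_subtype_le _) (by
    rintro k hk _ ⟨z, hz, rfl⟩
    have hkz : k * (z : G) * k⁻¹ ∈ P := (mem_normalizer_iff.1 hk.1 z).1 z.2
    refine ⟨⟨_, hkz⟩, mem_center_iff.2 fun w => Subtype.ext ?_, rfl⟩
    have hw : k⁻¹ * (w : G) * k ∈ P := by
      simpa using (mem_normalizer_iff.1 (inv_mem hk.1) w).1 w.2
    have h2 := congrArg Subtype.val (mem_center_iff.1 hz ⟨_, hw⟩)
    simp only [coe_mul] at h2
    show (w : G) * (k * z * k⁻¹) = k * z * k⁻¹ * w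
    calc (w : G) * (k * z * k⁻¹) = k * ((k⁻¹ * w * k) * z) * k⁻¹ := by group
      _ = k * ((z : G) * (k⁻¹ * w * k)) * k⁻¹ := by rw [h2]
      _ = _ := by group) with h0 | h0
  · exact absurd ((map_eq_bot_iff_of_injective _ P.subtype_injective).1 h0)
      (PS.2.map D.subtype).bot_lt_center.ne'
  · intro x hx y hy
    obtain ⟨z, hz, rfl⟩ : x ∈ (center P).map P.subtype := h0.symm ▸ hx
    exact (congrArg Subtype.val (mem_center_iff.1 hz ⟨y, hy⟩)).symm

end CfsgLib.DerangeIndex
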